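import Cfsg.Agent.H712.XZ.Cls
import Cfsg.Agent.ClassicalGeometry.AutPSL.Main

/-!
# S4791 + S4927, own characteristic: `PSL_n` (helper712)

`exists_cls_psl` : enough classes of elements of the split torus of `PSL_n(p^f)`, `p ≥ 11`, not `PSL_2(p)`.
-/

set_option autoImplicit false
set_option linter.unusedSectionVars false

open Cfsg Matrix

namespace Cfsg.Agent.H712.XZ

open Cfsg.Agent.ClassicalGeometry.AutPSL.Auto Cfsg.Agent.ClassicalGeometry.AutPSL.Main
  Cfsg.Agent.ClassicalGeometry.AutPSL.Root Cfsg.Agent.ClassicalGeometry.AutPSL.SylowU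

universe u v

theorem TCls.congr {p m : ℕ} {S T : Type*} [Group S] [Group T] [Finite S] [Finite T] [Fact p.Prime] (e : S ≃* T) (h : TCls p m S) : TCls p m T := by
  obtain ⟨x, h1, h2, h3⟩ := h
  refine ⟨fun i => e (x i), fun i => ?_, fun i => ?_, fun i j σ h => ?_⟩
  · rw [MulEquiv.orderOf_eq]
    exact h1 i
  · obtain ⟨R, hR⟩ := h2 i
    refine ⟨R.mapSurjective (f := e.toMonoidHom) e.surjective, fun u hu => ?_⟩
    have hu' : u ∈ (R : Subgroup S).map e.toMonoidHom := hu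
    obtain ⟨v, hv, rfl⟩ := hu'
    have h2 : e (x i * v * (x i)⁻¹) ∈ (R : Subgroup S).map e.toMonoidHom := ⟨_, hR v hv, rfl⟩
    rw [map_mul, map_mul, map_inv] at h2
    exact h2
  · refine h3 i j (e.trans (σ.trans e.symm)) ?_
    show e.symm (σ (e (x i))) = x j
    rw [h, MulEquiv.symm_apply_apply]

section eig

variable {ι : Type*} [Fintype ι] [DecidableEq ι] {F : Type*} [Field F]

/-- eigenvalues -/
def Eig (A : Matrix ι ι F) (x : F) : Prop := ∃ v, v ≠ 0 ∧ A.mulVec v = x • v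

theorem eig_diagonal {d : ι → F} {x : F} : Eig (diagonal d) x ↔ ∃ i, x = d i := by
  constructor
  · rintro ⟨v, hv, h⟩
    obtain ⟨i, hi⟩ := Function.ne_iff.1 hv
    refine ⟨i, ?_⟩
    have h1 := congrFun h i
    rw [mulVec_diagonal, Pi.smul_apply, smul_eq_mul] at h1
    exact (mul_right_cancel₀ hi h1).symm
  · rintro ⟨i, rfl⟩
    refine ⟨Pi.single i 1, ?_, ?_⟩
    · intro h
      have := congrFun h i
      rw [Pi.single_eq_same] at this
      exact one_ne_zero this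
    · funext j
      rw [mulVec_diagonal, Pi.smul_apply, smul_eq_mul]
      by_cases hj : j = i
      · rw [hj]
      · rw [Pi.single_eq_of_ne hj, mul_zero, mul_zero]

theorem Eig.map {A B G : Matrix ι ι F} {τ : F ≃+* F} {l : F} (hl : l ≠ 0) (hG : IsUnit G)
    (h : G * A.map τ = l • (B * G)) {x : F} (hx : Eig A x) : Eig B (l⁻¹ * τ x) := by
  obtain ⟨v, hv, hv'⟩ := hx
  have hm : (fun i => τ (A.mulVec v i)) = (A.map τ).mulVec (fun i => τ (v i)) := by
    funext i
    simp [Matrix.mulVec, dotProduct, map_sum]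
  refine ⟨G.mulVec (fun i => τ (v i)), fun h0 => hv ?_, ?_⟩
  · obtain ⟨u, rfl⟩ := hG
    have h1 := congrArg (fun z => (u⁻¹ : (Matrix ι ι F)ˣ).1.mulVec z) h0
    simp only [mulVec_mulVec, Units.inv_mul, one_mulVec, mulVec_zero] at h1
    funext i
    have h2 := congrFun h1 i
    exact (map_eq_zero_iff τ τ.injective).1 h2
  · have h1 : B * G = l⁻¹ • (G * A.map τ) := by rw [h, smul_smul, inv_mul_cancel₀ hl, one_smul]
    have h2 : (fun i => τ ((x • v) i)) = τ x • (fun i => τ (v i)) := by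
      funext i
      simp
    rw [mulVec_mulVec, h1, smul_mulVec, ← mulVec_mulVec, ← hm, hv', h2, mulVec_smul, smul_smul]

theorem Eig.comap {A B G : Matrix ι ι F} {τ : F ≃+* F} {l : F} (hl : l ≠ 0) (hG : IsUnit G)
    (h : G * A.map τ = l • (B * G)) {y : F} (hy : Eig B y) : ∃ x, Eig A x ∧ y = l⁻¹ * τ x := by
  obtain ⟨u, rfl⟩ := hG
  have h1 : (u⁻¹ : (Matrix ι ι F)ˣ).1.map τ.symm * B.map τ.symm =
      (τ.symm l)⁻¹ • (A * (u⁻¹ : (Matrix ι ι F)ˣ).1.map τ.symm) := by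
    have h2 : B * u.1 = l⁻¹ • (u.1 * A.map τ) := by rw [h, smul_smul, inv_mul_cancel₀ hl, one_smul]
    have h3 : (u⁻¹ : (Matrix ι ι F)ˣ).1 * B = l⁻¹ • (A.map τ * (u⁻¹ : (Matrix ι ι F)ˣ).1) := by
      have h4 : B = l⁻¹ • (u.1 * A.map τ) * (u⁻¹ : (Matrix ι ι F)ˣ).1 := by
        rw [← h2, Matrix.mul_assoc, Units.mul_inv, Matrix.mul_one]
      conv_lhs => rw [h4]
      rw [Matrix.smul_mul, Matrix.mul_smul, ← Matrix.mul_assoc, ← Matrix.mul_assoc, Units.inv_mul, Matrix.one_mul]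
    have h5 : ((u⁻¹ : (Matrix ι ι F)ˣ).1 * B).map τ.symm = (l⁻¹ • (A.map τ * (u⁻¹ : (Matrix ι ι F)ˣ).1)).map τ.symm :=
      congrArg (fun z : Matrix ι ι F => z.map τ.symm) h3
    have e1 : ∀ C D : Matrix ι ι F, (C * D).map τ.symm = C.map τ.symm * D.map τ.symm := fun C D =>
      Matrix.map_mul (f := (τ.symm : F →+* F))
    have e2 : ∀ (a : F) (C : Matrix ι ι F), (a • C).map τ.symm = τ.symm a • C.map τ.symm := by
      intro a C
      ext i j
      simp
    rw [e1, e2, e1, map_inv₀] at h5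
    rw [h5]
    congr 2
    ext i j
    simp
  have h6 := Eig.map (τ := τ.symm) (A := B) (B := A) (inv_ne_zero ((map_ne_zero_iff τ.symm τ.symm.injective).2 hl))
    (G := (u⁻¹ : (Matrix ι ι F)ˣ).1.map τ.symm) ?_ h1 hy
  · refine ⟨_, h6, ?_⟩
    rw [inv_inv, map_mul, RingEquiv.apply_symm_apply, RingEquiv.apply_symm_apply, ← mul_assoc, inv_mul_cancel₀ hl,
      one_mul]
  · exact (Units.isUnit (u⁻¹)).map (RingHom.mapMatrix (m := ι) (τ.symm : F →+* F))

/-- an invariant of the set of eigenvalues up to a scalar and a field automorphism -/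
def Symm (A : Matrix ι ι F) : Prop := ∃ z, Eig A z ∧ ∀ x, Eig A x → ∃ y, Eig A y ∧ x * y = z ^ 2

theorem Symm.map {A B G : Matrix ι ι F} {τ : F ≃+* F} {l : F} (hl : l ≠ 0) (hG : IsUnit G)
    (h : G * A.map τ = l • (B * G)) (hA : Symm A) : Symm B := by
  obtain ⟨z, hz, hz'⟩ := hA
  refine ⟨_, hz.map hl hG h, fun y hy => ?_⟩
  obtain ⟨x, hx, rfl⟩ := hy.comap hl hG h
  obtain ⟨w, hw, hw'⟩ := hz' x hx
  refine ⟨_, hw.map hl hG h, ?_⟩
  have h1 : τ x * τ w = τ z ^ 2 := by rw [← map_mul, hw', map_pow]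
  linear_combination (l⁻¹) ^ 2 * h1

end eig

section psl

variable {n : ℕ} {F : Type*} [Field F] [Fintype F]

/-- diagonal elements of `SL_n` -/
def dg (d : Fin n → Fˣ) (h : ∏ i, d i = 1) : Matrix.SpecialLinearGroup (Fin n) F :=
  ⟨diagonal fun i => (d i : F), by rw [det_diagonal, ← Units.coe_prod, h, Units.val_one]⟩

theorem dg_val (d : Fin n → Fˣ) (h : ∏ i, d i = 1) : (dg d h).1 = diagonal fun i => (d i : F) := rfl

theorem dg_inv (d : Fin n → Fˣ) (h : ∏ i, d i = 1) : (dg d h)⁻¹ = dg (fun i => (d i)⁻¹) (by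
    rw [Finset.prod_inv_distrib, h, inv_one]) := by
  rw [inv_eq_iff_mul_eq_one]
  apply Subtype.ext
  show diagonal _ * diagonal _ = (1 : Matrix (Fin n) (Fin n) F)
  rw [diagonal_mul_diagonal, ← diagonal_one]
  congr 1
  funext i
  exact Units.mul_inv _

theorem not_dvd_dg (p : ℕ) [Fact p.Prime] [CharP F p] (d : Fin n → Fˣ) (h : ∏ i, d i = 1) :
    ¬ p ∣ orderOf (pr (dg d h)) := by
  classical
  obtain ⟨k, hp', hk⟩ := FiniteField.card F p
  have h1 : (dg d h) ^ (Fintype.card F - 1) = 1 := by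
    apply Subtype.ext
    show (diagonal fun i => (d i : F)) ^ (Fintype.card F - 1) = 1
    rw [diagonal_pow, ← diagonal_one]
    congr 1
    funext i
    rw [Pi.pow_apply]
    have := pow_card_eq_one (x := d i)
    rw [Fintype.card_units] at this
    have h2 := congrArg (fun z : Fˣ => (z : F)) this
    push_cast at h2
    exact h2
  have h2 : (pr (dg d h)) ^ (Fintype.card F - 1) = 1 := by rw [← map_pow, h1, map_one]
  intro h3
  have h4 : p ∣ Fintype.card F - 1 := h3.trans (orderOf_dvd_of_pow_eq_one h2)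
  have h5 : p ∣ Fintype.card F := by
    rw [hk]
    exact dvd_pow_self p k.ne_zero
  have h6 : 1 ≤ Fintype.card F := Fintype.card_pos
  have h7 := (Nat.dvd_sub_iff_right h6 h5).1 h4
  exact hp'.one_lt.ne' (Nat.dvd_one.1 h7)

theorem dg_normalizes (p : ℕ) [Fact p.Prime] [CharP F p] (d : Fin n → Fˣ) (h : ∏ i, d i = 1) :
    ∃ Q : Sylow p (Matrix.ProjectiveSpecialLinearGroup (Fin n) F), ∀ u ∈ (Q : Subgroup _),
      pr (dg d h) * u * (pr (dg d h))⁻¹ ∈ (Q : Subgroup _) := by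
  obtain ⟨Q, hQ⟩ := exists_sylow (F := F) n p
  refine ⟨Q, fun u hu => ?_⟩
  rw [hQ] at hu ⊢
  obtain ⟨v, hv, rfl⟩ := hu
  refine ⟨dg d h * v * (dg d h)⁻¹, ?_, by rw [map_mul, map_mul, map_inv]⟩
  have hv' := mem_upper.1 hv
  refine mem_upper.2 fun i j hij => ?_
  rw [dg_inv]
  show (diagonal (fun i => (d i : F)) * v.1 * diagonal (fun i => (((d i)⁻¹ : Fˣ) : F))) i j = _
  rw [mul_diagonal, diagonal_mul, hv' i j hij]
  split_ifs with h1
  · rw [h1, mul_one, Units.mul_inv]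
  · rw [mul_zero, zero_mul]

theorem exists_form (p : ℕ) [Fact p.Prime] [CharP F p] (hn : 2 ≤ n)
    (β : Matrix.ProjectiveSpecialLinearGroup (Fin n) F ≃* Matrix.ProjectiveSpecialLinearGroup (Fin n) F)
    (d e : Fin n → Fˣ) (hd : ∏ i, d i = 1) (he : ∏ i, e i = 1) (h : β (pr (dg d hd)) = pr (dg e he)) :
    ∃ (A : Matrix (Fin n) (Fin n) F) (τ : F ≃+* F) (l : F), IsUnit A ∧ l ≠ 0 ∧ l ^ n = 1 ∧
      (A * (diagonal fun i => (d i : F)).map τ = l • ((diagonal fun i => (e i : F)) * A) ∨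
        A * (diagonal fun i => ((d i : F))⁻¹).map τ = l • ((diagonal fun i => (e i : F)) * A)) := by
  have key : ∀ (A : GL (Fin n) F) (τ : F ≃+* F) (s : Matrix.SpecialLinearGroup (Fin n) F),
      pr (cj A (fld τ s)) = pr (dg e he) → ∃ l : F, l ≠ 0 ∧ l ^ n = 1 ∧
        A.1 * s.1.map τ = l • ((diagonal fun i => (e i : F)) * A.1) := by
    intro A τ s hs
    obtain ⟨c, hc⟩ := exists_smul_of_pr_eq hs
    have hdet : (dg e he).1.det = 1 := (dg e he).2
    rw [hc, det_smul, (cj A (fld τ s)).2, mul_one, Fintype.card_fin] at hdet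
    have hc0 : c ≠ 0 := by
      rintro rfl
      rw [zero_pow (by omega)] at hdet
      exact zero_ne_one hdet
    refine ⟨c⁻¹, inv_ne_zero hc0, by rw [inv_pow, hdet, inv_one], ?_⟩
    have hc' : (diagonal fun i => (e i : F)) = c • (A.1 * s.1.map τ * (A⁻¹ : GL (Fin n) F).1) := hc
    rw [hc', Matrix.smul_mul, smul_smul, inv_mul_cancel₀ hc0, one_smul, Matrix.mul_assoc, Units.inv_mul, Matrix.mul_one]
  rcases Nat.lt_or_ge n 3 with h3 | h3
  · obtain rfl : n = 2 := by omega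
    obtain ⟨A, τ, hA⟩ := surj_two p β
    rw [hA, lift_pr] at h
    obtain ⟨l, h1, h2, h3⟩ := key A τ _ h
    exact ⟨A.1, τ, l, Units.isUnit A, h1, h2, Or.inl h3⟩
  · rcases surj_three p h3 β with ⟨A, τ, hA⟩ | ⟨A, τ, hA⟩
    · rw [hA, lift_pr] at h
      obtain ⟨l, h1, h2, h3⟩ := key A τ _ h
      exact ⟨A.1, τ, l, Units.isUnit A, h1, h2, Or.inl h3⟩
    · rw [hA, lift_pr] at h
      obtain ⟨l, h1, h2, h3⟩ := key A τ _ h
      refine ⟨A.1, τ, l, Units.isUnit A, h1, h2, Or.inr ?_⟩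
      rw [← h3]
      congr 2
      show _ = ((dg d hd)⁻¹).1ᵀ
      rw [dg_inv, dg_val, diagonal_transpose]
      congr 1
      funext i
      rw [Units.val_inv_eq_inv_val]

end psl

section fam

variable {F : Type*} [Field F] [Fintype F]

/-- `(c, c⁻¹, 1, …, 1)` -/
def dc (m : ℕ) (c : Fˣ) : Fin (m + 2) → Fˣ := Fin.cons c (Fin.cons c⁻¹ fun _ => 1)

theorem prod_dc (m : ℕ) (c : Fˣ) : ∏ i, dc m c i = 1 := by
  rw [dc, Fin.prod_univ_succ, Fin.prod_univ_succ]
  simp

/-- `(a, a, a⁻², 1, …, 1)` -/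
def da (m : ℕ) (a : Fˣ) : Fin (m + 3) → Fˣ := Fin.cons a (Fin.cons a (Fin.cons (a ^ 2)⁻¹ fun _ => 1))

theorem prod_da (m : ℕ) (a : Fˣ) : ∏ i, da m a i = 1 := by
  rw [da, Fin.prod_univ_succ, Fin.prod_univ_succ, Fin.prod_univ_succ]
  simp only [Fin.cons_zero, Fin.cons_succ, Finset.prod_const_one, mul_one]
  group

theorem eig_dc (m : ℕ) (c : Fˣ) (x : F) :
    Eig (diagonal fun i => (dc (m + 1) c i : F)) x ↔ x = c ∨ x = (c : F)⁻¹ ∨ x = 1 := by
  rw [eig_diagonal, dc, Fin.exists_fin_succ, Fin.exists_fin_succ]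
  simp

theorem eig_dc_inv (m : ℕ) (c : Fˣ) (x : F) :
    Eig (diagonal fun i => ((dc (m + 1) c i : F))⁻¹) x ↔ x = c ∨ x = (c : F)⁻¹ ∨ x = 1 := by
  rw [eig_diagonal, dc, Fin.exists_fin_succ, Fin.exists_fin_succ]
  simp only [Fin.cons_zero, Fin.cons_succ, Units.val_inv_eq_inv_val, inv_inv, Units.val_one, inv_one, exists_const]
  tauto

theorem eig_da (m : ℕ) (a : Fˣ) (x : F) :
    Eig (diagonal fun i => (da m a i : F)) x ↔ x = a ∨ x = ((a : F) ^ 2)⁻¹ ∨ (m ≠ 0 ∧ x = 1) := by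
  rw [eig_diagonal, da, Fin.exists_fin_succ, Fin.exists_fin_succ, Fin.exists_fin_succ]
  simp only [Fin.cons_zero, Fin.cons_succ, Units.val_inv_eq_inv_val, Units.val_pow_eq_pow_val, Units.val_one]
  have h1 : (∃ _ : Fin m, x = 1) ↔ (m ≠ 0 ∧ x = 1) := by
    constructor
    · rintro ⟨i, hi⟩
      exact ⟨by have := i.2; omega, hi⟩
    · rintro ⟨h, hx⟩
      exact ⟨⟨0, by omega⟩, hx⟩
  rw [h1]
  tauto

theorem symm_dc (m : ℕ) (c : Fˣ) : Symm (diagonal fun i => (dc (m + 1) c i : F)) := by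
  have hc : (c : F) ≠ 0 := c.ne_zero
  refine ⟨1, (eig_dc m c 1).2 (Or.inr (Or.inr rfl)), fun x hx => ?_⟩
  rcases (eig_dc m c x).1 hx with rfl | rfl | rfl
  · exact ⟨(c : F)⁻¹, (eig_dc m c _).2 (Or.inr (Or.inl rfl)), by field_simp⟩
  · exact ⟨(c : F), (eig_dc m c _).2 (Or.inl rfl), by field_simp⟩
  · exact ⟨1, (eig_dc m c _).2 (Or.inr (Or.inr rfl)), by ring⟩

theorem symm_dc_inv (m : ℕ) (c : Fˣ) : Symm (diagonal fun i => ((dc (m + 1) c i : F))⁻¹) := by
  have hc : (c : F) ≠ 0 := c.ne_zero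
  refine ⟨1, (eig_dc_inv m c 1).2 (Or.inr (Or.inr rfl)), fun x hx => ?_⟩
  rcases (eig_dc_inv m c x).1 hx with rfl | rfl | rfl
  · exact ⟨(c : F)⁻¹, (eig_dc_inv m c _).2 (Or.inr (Or.inl rfl)), by field_simp⟩
  · exact ⟨(c : F), (eig_dc_inv m c _).2 (Or.inl rfl), by field_simp⟩
  · exact ⟨1, (eig_dc_inv m c _).2 (Or.inr (Or.inr rfl)), by ring⟩

theorem not_symm_da (m : ℕ) (a : Fˣ) (ha : ∀ k, 1 ≤ k → k ≤ 6 → (a : F) ^ k ≠ 1) :
    ¬ Symm (diagonal fun i => (da m a i : F)) := by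
  have h0 : (a : F) ≠ 0 := a.ne_zero
  rintro ⟨z, hz, hz'⟩
  rcases (eig_da m a z).1 hz with rfl | rfl | ⟨hm, rfl⟩
  · obtain ⟨y, hy, e⟩ := hz' _ ((eig_da m a _).2 (Or.inr (Or.inl rfl)))
    rcases (eig_da m a y).1 hy with rfl | rfl | ⟨-, rfl⟩
    · apply ha 3 (by norm_num) (by norm_num)
      field_simp at e
      linear_combination -e
    · apply ha 6 (by norm_num) (by norm_num)
      field_simp at e
      linear_combination -e
    · apply ha 4 (by norm_num) (by norm_num)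
      field_simp at e
      linear_combination -e
  · obtain ⟨y, hy, e⟩ := hz' _ ((eig_da m a _).2 (Or.inl rfl))
    rcases (eig_da m a y).1 hy with rfl | rfl | ⟨-, rfl⟩
    · apply ha 6 (by norm_num) (by norm_num)
      field_simp at e
      linear_combination e
    · apply ha 3 (by norm_num) (by norm_num)
      field_simp at e
      linear_combination e
    · apply ha 5 (by norm_num) (by norm_num)
      field_simp at e
      linear_combination e
  · obtain ⟨y, hy, e⟩ := hz' _ ((eig_da m a _).2 (Or.inl rfl))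
    rcases (eig_da m a y).1 hy with rfl | rfl | ⟨-, rfl⟩
    · apply ha 2 (by norm_num) (by norm_num)
      linear_combination e
    · apply ha 1 (by norm_num) (by norm_num)
      field_simp at e
      linear_combination -e
    · apply ha 1 (by norm_num) (by norm_num)
      linear_combination e

variable {p f : ℕ} [hp : Fact p.Prime]

/-- **`PSL_n`** -/
theorem exists_cls_psl (h11 : 11 ≤ p) (hF : Fintype.card F = p ^ f) (hf : 1 ≤ f) {n : ℕ} (hn : 2 ≤ n)
    (hnf : n = 2 → 2 ≤ f) : ∃ m, 4 * (p - 1) < m ^ 2 ∧ TCls p m (Matrix.ProjectiveSpecialLinearGroup (Fin n) F) := by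
  have hc : CharP F p := by
    obtain ⟨r, hr⟩ := CharP.exists F
    obtain ⟨n, hr', hn⟩ := FiniteField.card F r
    have h1 : r = p := by
      rw [hF] at hn
      have h2 : r ∣ p ^ f := by
        rw [hn]
        exact dvd_pow_self r n.pos.ne'
      exact (Nat.prime_dvd_prime_iff_eq hr' hp.out).1 (hr'.dvd_of_dvd_pow h2)
    rwa [h1] at hr
  obtain ⟨m, rfl⟩ : ∃ m, n = m + 2 := ⟨n - 2, by omega⟩
  rcases Nat.eq_zero_or_pos m with rfl | hm
  · refine exists_cls_sq hF (hnf rfl) h11 (fun c => pr (dg (dc 0 c) (prod_dc 0 c))) (fun c => not_dvd_dg p _ _)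
      (fun c => dg_normalizes p _ _) fun c c' σ h => ?_
    obtain ⟨A, τ, l, hA, hl, hl', h'⟩ := exists_form p le_rfl σ _ _ _ _ h
    have hc0 : (c : F) ≠ 0 := c.ne_zero
    have hl2 : l⁻¹ ^ 2 = 1 := by rw [inv_pow, hl', inv_one]
    refine ⟨τ, ?_⟩
    have e1 : ∀ x : F, Eig (diagonal fun i => (dc 0 c i : F)) x ↔ x = c ∨ x = (c : F)⁻¹ := by
      intro x
      rw [eig_diagonal, Fin.exists_fin_two]
      simp [dc]
    have e2 : ∀ x : F, Eig (diagonal fun i => ((dc 0 c i : F))⁻¹) x ↔ x = c ∨ x = (c : F)⁻¹ := by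
      intro x
      rw [eig_diagonal, Fin.exists_fin_two]
      simp [dc, or_comm]
    have e3 : Eig (diagonal fun i => (dc 0 c' i : F)) c' := by
      rw [eig_diagonal, Fin.exists_fin_two]
      simp [dc]
    have htc : τ c ≠ 0 := (map_ne_zero_iff τ τ.injective).2 hc0
    have key : ∃ x : F, (x = c ∨ x = (c : F)⁻¹) ∧ (c' : F) = l⁻¹ * τ x := by
      rcases h' with h' | h'
      · obtain ⟨x, hx, hx'⟩ := e3.comap hl hA h'
        exact ⟨x, (e1 x).1 hx, hx'⟩
      · obtain ⟨x, hx, hx'⟩ := e3.comap hl hA h'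
        exact ⟨x, (e2 x).1 hx, hx'⟩
    obtain ⟨x, rfl | rfl, hx'⟩ := key
    · left
      rw [hx', mul_pow, hl2, one_mul]
    · right
      rw [hx', map_inv₀, mul_assoc, inv_mul_cancel₀ htc, mul_one, hl2]
  · obtain ⟨m, rfl⟩ : ∃ k, m = k + 1 := ⟨m - 1, by omega⟩
    refine exists_cls hF hf h11 (fun c => pr (dg (dc (m + 1) c) (prod_dc _ c))) (fun c => not_dvd_dg p _ _)
      (fun c => dg_normalizes p _ _) (fun c c' σ h => ?_) fun hp11 hf1 => ?_
    · obtain ⟨A, τ, l, hA, hl, hl', h'⟩ := exists_form p (by omega) σ _ _ _ _ h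
      refine ⟨τ, ?_⟩
      rcases h' with h' | h'
      · exact eq_of_spec_mat c.ne_zero c'.ne_zero (eig_dc m c) (eig_dc m c') hA hl h'
      · exact eq_of_spec_mat c.ne_zero c'.ne_zero (eig_dc_inv m c) (eig_dc m c') hA hl h'
    · obtain ⟨g, hg⟩ := exists_gen (F := F) (p := p) hF
      refine ⟨pr (dg (da m g) (prod_da m g)), not_dvd_dg p _ _, dg_normalizes p _ _, fun σ c h => ?_⟩
      obtain ⟨A, τ, l, hA, hl, hl', h'⟩ := exists_form p (by omega) σ _ _ _ _ h
      have hs : Symm (diagonal fun i => (da m g i : F)) := by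
        rcases h' with h' | h'
        · exact (symm_dc m c).map hl hA h'
        · exact (symm_dc_inv m c).map hl hA h'
      refine not_symm_da m g (fun k hk hk' h1 => ?_) hs
      have h2 : (g : Fˣ) ^ (k : ℤ) = 1 := by
        rw [zpow_natCast]
        apply Units.ext
        push_cast
        exact h1
      have h3 := hg _ h2
      rw [hf1, hp11, pow_one] at h3
      have h4 := Int.le_of_dvd (by omega) h3
      push_cast at h4
      omega

end fam

section final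

variable {p : ℕ} [hp : Fact p.Prime] {S : Type u} [Group S] [Finite S]

/-- **own characteristic, `PSL_n`** -/
theorem cls_of_psl (h11 : 11 ≤ p) (h : IsPSLChar p S) (P : Sylow p S) (hP : ¬ IsCyclic P) :
    ∃ m, 4 * (p - 1) < m ^ 2 ∧ TCls p m S := by
  obtain ⟨F, _, _, _, n, hn, -, ⟨e⟩⟩ := h
  obtain ⟨f, hp', hF⟩ := FiniteField.card F p
  have key : n = 2 → 2 ≤ (f : ℕ) := by
    rintro rfl
    by_contra hf
    have hf1 : (f : ℕ) = 1 := by
      have := f.pos
      omega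
    obtain ⟨Q, hQ⟩ := exists_sylow (F := F) 2 p
    have h1 : Nat.card Q = p := by
      have h2 : Nat.card (Q : Subgroup (Matrix.ProjectiveSpecialLinearGroup (Fin 2) F)) =
          (p ^ 1) ^ (2 * (2 - 1) / 2) := by
        rw [hQ, card_map_upper, hF, hf1]
      simpa using h2
    have h3 : IsCyclic Q := isCyclic_of_prime_card h1
    apply hP
    let R : Sylow p (Matrix.ProjectiveSpecialLinearGroup (Fin 2) F) := P.mapSurjective (f := e.toMonoidHom) e.surjective
    have h4 : IsCyclic R := by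
      have := Sylow.equiv Q R
      exact isCyclic_of_surjective this this.surjective
    have h5 : P ≃* R := e.subgroupMap (P : Subgroup S)
    exact isCyclic_of_surjective h5.symm h5.symm.surjective
  obtain ⟨m, hm, hm'⟩ := exists_cls_psl (F := F) h11 hF f.pos hn key
  exact ⟨m, hm, hm'.congr e.symm⟩

end final

end Cfsg.Agent.H712.XZ
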