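import Cfsg.Agent.H712.XZ.OwnLie
import Cfsg.Agent.H765.D3.Pos

/-!
# S4791 + S4927, own characteristic: counting elements of the split torus (helper712)

* `exists_frob` : automorphisms of the field with `p ^ f` elements are the maps `x ↦ x ^ p ^ k`, `k < f`;
* `nt` : number theory;
* `exists_cls` : a family `t : Fˣ → S` of elements of the torus such that `σ (t c) = t c'` only if `c' = τ c` or `c' τ c = 1`
  (`τ` an automorphism of `F`), for `p = 11 = #F` one more element;
* `exists_cls_sq` : the weaker condition `c' ^ 2 = (τ c) ^ 2` or `c' ^ 2 (τ c) ^ 2 = 1` if `F` is not the prime field;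
* `eq_of_spec` : the spectra `{a, a⁻¹, 1}` and `{b, b⁻¹, 1}`.
-/

set_option autoImplicit false
set_option linter.unusedSectionVars false

open Cfsg

namespace Cfsg.Agent.H712.XZ

universe u v

/-- automorphisms of finite fields -/
theorem exists_frob {F : Type*} [Field F] [Fintype F] {p f : ℕ} [hp : Fact p.Prime] (hF : Fintype.card F = p ^ f)
    (hf : 1 ≤ f) (τ : F ≃+* F) : ∃ k < f, ∀ x, τ x = x ^ p ^ k := by
  have hc : CharP F p := by
    obtain ⟨r, hr⟩ := CharP.exists F
    obtain ⟨n, hr', hn⟩ := FiniteField.card F r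
    have h1 : r = p := by
      rw [hF] at hn
      have h2 : r ∣ p ^ f := by
        rw [hn]
        exact dvd_pow_self r n.pos.ne'
      exact (Nat.prime_dvd_prime_iff_eq hr' hp.out).1 (hr'.dvd_of_dvd_pow h2)
    rwa [h1] at hr
  obtain ⟨n, hn⟩ := Cfsg.Agent.H765.D3.exists_pow_frob (p := p) τ
  refine ⟨n % f, Nat.mod_lt _ hf, fun x => ?_⟩
  rw [hn]
  have h1 : ∀ m : ℕ, x ^ p ^ (f * m) = x := by
    intro m
    induction m with
    | zero => simp
    | succ m ih => rw [Nat.mul_succ, pow_add, pow_mul, ih, ← hF, FiniteField.pow_card]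
  conv_lhs => rw [← Nat.div_add_mod n f, pow_add, pow_mul, h1]

/-- number theory -/
theorem nt {p f k i j : ℕ} (hp : p.Prime) (h5 : 5 ≤ p) (hf : 2 ≤ f) (hk : k < f) (hi : 1 ≤ i) (hi' : i < p)
    (hj : 1 ≤ j) (hj' : j < p) (h : ((p : ℤ) ^ f - 1) ∣ 2 * (p ^ k * i) - 2 * j ∨
      ((p : ℤ) ^ f - 1) ∣ 2 * (p ^ k * i) + 2 * j) : i = j := by
  obtain ⟨f', rfl⟩ : ∃ f', f = f' + 2 := ⟨f - 2, by omega⟩
  have hp1 : ¬ (p : ℤ) ∣ 1 := fun h => by
    have := Int.le_of_dvd (by norm_num) h
    omega
  set X : ℤ := (p : ℤ) ^ (f' + 1) with hX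
  have hpf : (p : ℤ) ^ (f' + 2) = p * X := by rw [hX, ← pow_succ']
  have hpX : (p : ℤ) ∣ X := dvd_pow_self _ (by omega)
  have hX1 : (p : ℤ) ≤ X := by
    obtain ⟨c, hc⟩ := hpX
    have : 0 < X := by positivity
    have hc0 : 0 < c := by
      by_contra hcc
      push Not at hcc
      have : (p : ℤ) * c ≤ 0 := mul_nonpos_of_nonneg_of_nonpos (by positivity) hcc
      omega
    nlinarith
  have hX2 : X = p ∨ (p : ℤ) * p ≤ X := by
    rcases Nat.eq_zero_or_pos f' with h0 | h0
    · left
      rw [hX, h0]
      simp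
    · right
      obtain ⟨g, rfl⟩ : ∃ g, f' = g + 1 := ⟨f' - 1, by omega⟩
      rw [hX, show g + 1 + 1 = 2 + g by ring, pow_add, pow_two]
      have : (1 : ℤ) ≤ (p : ℤ) ^ g := one_le_pow₀ (by exact_mod_cast hp.one_lt.le)
      nlinarith [mul_pos (show (0 : ℤ) < p by positivity) (show (0 : ℤ) < p by positivity)]
  rw [hpf] at h
  have hp5 : (5 : ℤ) ≤ p := by exact_mod_cast h5
  have hiZ : (1 : ℤ) ≤ i := by exact_mod_cast hi
  have hiZ' : (i : ℤ) < p := by exact_mod_cast hi'
  have hjZ : (1 : ℤ) ≤ j := by exact_mod_cast hj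
  have hjZ' : (j : ℤ) < p := by exact_mod_cast hj'
  have hpp : (p : ℤ) * p ≤ p * X := mul_le_mul_of_nonneg_left hX1 (by positivity)
  have hp5' : (5 : ℤ) * p ≤ p * p := mul_le_mul_of_nonneg_right hp5 (by positivity)
  rcases Nat.eq_zero_or_pos k with hk0 | hk0
  · subst hk0
    rw [pow_zero, one_mul] at h
    rcases h with ⟨s, hs⟩ | ⟨s, hs⟩
    · have hs0 : s = 0 := by
        by_contra hne
        rcases lt_or_gt_of_ne hne with h1 | h1
        · have : (p * X - 1) * s ≤ - (p * X - 1) := by nlinarith
          omega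
        · have : (p * X - 1) ≤ (p * X - 1) * s := by nlinarith
          omega
      subst hs0
      rw [mul_zero] at hs
      have : (i : ℤ) = j := by omega
      exact_mod_cast this
    · exfalso
      have hs1 : 1 ≤ s := by
        by_contra hne
        push Not at hne
        have : (p * X - 1) * s ≤ 0 := mul_nonpos_of_nonneg_of_nonpos (by omega) (by omega)
        omega
      have : (p * X - 1) ≤ (p * X - 1) * s := by nlinarith
      omega
  · obtain ⟨k', rfl⟩ : ∃ k', k = k' + 1 := ⟨k - 1, by omega⟩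
    set Y : ℤ := (p : ℤ) ^ k' with hY
    have hpk : (p : ℤ) ^ (k' + 1) = p * Y := by rw [hY, ← pow_succ']
    have hY1 : 1 ≤ Y := one_le_pow₀ (by omega)
    have hYX : p * Y ≤ X := by
      rw [← hpk, hX]
      exact pow_le_pow_right₀ (by omega) (by omega)
    have hY2 : Y = 1 ∨ (p : ℤ) ∣ Y := by
      rcases Nat.eq_zero_or_pos k' with h0 | h0
      · left
        rw [hY, h0, pow_zero]
      · right
        exact dvd_pow_self _ h0.ne'
    rw [hpk] at h
    have hYi : p * Y * i ≤ X * i := mul_le_mul_of_nonneg_right hYX (by omega)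
    have hXi : X * i ≤ X * (p - 1) := mul_le_mul_of_nonneg_left (by omega) (by omega)
    have hXi' : X * (p - 1) = p * X - X := by ring
    have hYi0 : 0 < p * Y * i := by positivity
    rcases h with ⟨s, hs⟩ | ⟨s, hs⟩
    · have hs0 : s = 0 ∨ s = 1 := by
        have h1 : -1 < s := by
          by_contra hne
          push Not at hne
          have : (p * X - 1) * s ≤ - (p * X - 1) := by nlinarith
          omega
        have h2 : s < 2 := by
          by_contra hne
          push Not at hne
          have : 2 * (p * X - 1) ≤ (p * X - 1) * s := by nlinarith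
          omega
        omega
      rcases hs0 with rfl | rfl
      · exfalso
        rw [mul_zero] at hs
        have h1 : (j : ℤ) = p * (Y * i) := by
          have : p * Y * i = p * (Y * i) := by ring
          omega
        have h2 : 1 ≤ Y * i := by nlinarith
        have : (p : ℤ) ≤ p * (Y * i) := by nlinarith
        omega
      · rw [mul_one] at hs
        have h1 : (p : ℤ) * (2 * (Y * i) - X) = 2 * j - 1 := by
          have : 2 * (p * Y * i) = p * (2 * (Y * i)) := by ring
          rw [mul_sub]
          omega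
        have h2 : 2 * (Y * i) - X = 1 := by
          have h3 : 0 < 2 * (Y * i) - X := by
            by_contra hne
            push Not at hne
            have : (p : ℤ) * (2 * (Y * i) - X) ≤ 0 := mul_nonpos_of_nonneg_of_nonpos (by positivity) hne
            omega
          have h4 : 2 * (Y * i) - X < 2 := by
            by_contra hne
            push Not at hne
            have : (p : ℤ) * 2 ≤ p * (2 * (Y * i) - X) := mul_le_mul_of_nonneg_left hne (by positivity)
            omega
          omega
        rw [h2, mul_one] at h1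
        rcases hY2 with hY2 | hY2
        · rw [hY2, one_mul] at h2
          rcases hX2 with hX2 | hX2
          · have : (i : ℤ) = j := by omega
            exact_mod_cast this
          · omega
        · exfalso
          apply hp1
          rw [← h2]
          exact dvd_sub (Dvd.dvd.mul_left (Dvd.dvd.mul_right hY2 _) _) hpX
    · have hs0 : s = 1 ∨ s = 2 := by
        have h1 : 0 < s := by
          by_contra hne
          push Not at hne
          have : (p * X - 1) * s ≤ 0 := mul_nonpos_of_nonneg_of_nonpos (by omega) (by omega)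
          omega
        have h2 : s < 3 := by
          by_contra hne
          push Not at hne
          have : 3 * (p * X - 1) ≤ (p * X - 1) * s := by nlinarith
          omega
        omega
      rcases hs0 with rfl | rfl
      · rw [mul_one] at hs
        have h1 : (p : ℤ) * (X - 2 * (Y * i)) = 2 * j + 1 := by
          have : 2 * (p * Y * i) = p * (2 * (Y * i)) := by ring
          rw [mul_sub]
          omega
        have h2 : X - 2 * (Y * i) = 1 := by
          have h3 : 0 < X - 2 * (Y * i) := by
            by_contra hne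
            push Not at hne
            have : (p : ℤ) * (X - 2 * (Y * i)) ≤ 0 := mul_nonpos_of_nonneg_of_nonpos (by positivity) hne
            omega
          have h4 : X - 2 * (Y * i) < 2 := by
            by_contra hne
            push Not at hne
            have : (p : ℤ) * 2 ≤ p * (X - 2 * (Y * i)) := mul_le_mul_of_nonneg_left hne (by positivity)
            omega
          omega
        rw [h2, mul_one] at h1
        rcases hY2 with hY2 | hY2
        · rw [hY2, one_mul] at h2
          rcases hX2 with hX2 | hX2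
          · have : (i : ℤ) = j := by omega
            exact_mod_cast this
          · omega
        · exfalso
          apply hp1
          rw [← h2]
          exact dvd_sub hpX (Dvd.dvd.mul_left (Dvd.dvd.mul_right hY2 _) _)
      · have h1 : (p : ℤ) * (X - Y * i) = j + 1 := by
          have : 2 * (p * Y * i) = 2 * (p * (Y * i)) := by ring
          rw [mul_sub]
          omega
        have h2 : X - Y * i = 1 := by
          have h3 : 0 < X - Y * i := by
            by_contra hne
            push Not at hne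
            have : (p : ℤ) * (X - Y * i) ≤ 0 := mul_nonpos_of_nonneg_of_nonpos (by positivity) hne
            omega
          have h4 : X - Y * i < 2 := by
            by_contra hne
            push Not at hne
            have : (p : ℤ) * 2 ≤ p * (X - Y * i) := mul_le_mul_of_nonneg_left hne (by positivity)
            omega
          omega
        rw [h2, mul_one] at h1
        rcases hY2 with hY2 | hY2
        · rw [hY2, one_mul] at h2
          rcases hX2 with hX2 | hX2
          · have : (i : ℤ) = j := by omega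
            exact_mod_cast this
          · omega
        · exfalso
          apply hp1
          rw [← h2]
          exact dvd_sub hpX (Dvd.dvd.mul_right hY2 _)

section cls

variable {F : Type*} [Field F] [Fintype F] {S : Type*} [Group S] {p f : ℕ} [hp : Fact p.Prime]

/-- a generator of the group of units -/
theorem exists_gen (hF : Fintype.card F = p ^ f) : ∃ g : Fˣ, ∀ n : ℤ, g ^ n = 1 → ((p : ℤ) ^ f - 1) ∣ n := by
  classical
  obtain ⟨g, hg⟩ := IsCyclic.exists_generator (α := Fˣ)
  refine ⟨g, fun n hn => ?_⟩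
  have h1 := orderOf_dvd_iff_zpow_eq_one.2 hn
  rw [orderOf_eq_card_of_forall_mem_zpowers hg, Nat.card_eq_fintype_card, Fintype.card_units, hF,
    Nat.cast_sub (Nat.one_le_pow _ _ hp.out.pos)] at h1
  push_cast at h1
  exact h1

/-- the split torus, if `F` is not the prime field: condition up to squares -/
theorem exists_cls_sq (hF : Fintype.card F = p ^ f) (hf : 2 ≤ f) (h11 : 11 ≤ p) (t : Fˣ → S)
    (ht : ∀ c, ¬ p ∣ orderOf (t c)) (hQ : ∀ c, ∃ Q : Sylow p S, ∀ u ∈ Q, t c * u * (t c)⁻¹ ∈ Q)
    (hσ : ∀ (c c' : Fˣ) (σ : S ≃* S), σ (t c) = t c' → ∃ τ : F ≃+* F, (c' : F) ^ 2 = τ c ^ 2 ∨ ((c' : F) * τ c) ^ 2 = 1) :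
    ∃ m, 4 * (p - 1) < m ^ 2 ∧ TCls p m S := by
  obtain ⟨g, hg⟩ := exists_gen (F := F) (p := p) hF
  refine ⟨p - 1, ?_, fun i => t (g ^ ((i : ℕ) + 1)), fun i => ht _, fun i => hQ _, fun i j σ h => ?_⟩
  · obtain ⟨r, hr⟩ : ∃ r, p - 1 = r + 5 := ⟨p - 6, by omega⟩
    rw [hr]
    nlinarith
  · have hi := i.2
    have hj := j.2
    obtain ⟨τ, hτ⟩ := hσ _ _ σ h
    obtain ⟨k, hk, hk'⟩ := exists_frob (p := p) hF (by omega) τ
    have key := nt (p := p) (f := f) (k := k) (i := i + 1) (j := j + 1) hp.out (by omega) hf hk (by omega) (by omega)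
      (by omega) (by omega) ?_
    · apply Fin.ext
      omega
    · have e1 : (g : Fˣ) ^ (2 * ((p : ℤ) ^ k * ((i : ℕ) + 1 : ℕ))) = ((g ^ ((i : ℕ) + 1)) ^ p ^ k) ^ 2 := by
        rw [← pow_mul, ← pow_mul, ← zpow_natCast]
        congr 1
        push_cast
        ring
      have e2 : (g : Fˣ) ^ (2 * (((j : ℕ) + 1 : ℕ) : ℤ)) = (g ^ ((j : ℕ) + 1)) ^ 2 := by
        rw [← pow_mul, ← zpow_natCast]
        congr 1
        push_cast
        ring
      rcases hτ with h1 | h1
      · left
        apply hg
        rw [zpow_sub, mul_inv_eq_one, e1, e2]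
        apply Units.ext
        rw [hk'] at h1
        push_cast at h1 ⊢
        exact h1.symm
      · right
        apply hg
        rw [zpow_add, e1, e2, ← mul_pow, mul_comm]
        apply Units.ext
        rw [hk'] at h1
        push_cast at h1 ⊢
        exact h1

/-- the split torus -/
theorem exists_cls (hF : Fintype.card F = p ^ f) (hf : 1 ≤ f) (h11 : 11 ≤ p) (t : Fˣ → S)
    (ht : ∀ c, ¬ p ∣ orderOf (t c)) (hQ : ∀ c, ∃ Q : Sylow p S, ∀ u ∈ Q, t c * u * (t c)⁻¹ ∈ Q)
    (hσ : ∀ (c c' : Fˣ) (σ : S ≃* S), σ (t c) = t c' → ∃ τ : F ≃+* F, (c' : F) = τ c ∨ (c' : F) * τ c = 1)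
    (h0 : p = 11 → f = 1 → ∃ x : S, ¬ p ∣ orderOf x ∧ (∃ Q : Sylow p S, ∀ u ∈ Q, x * u * x⁻¹ ∈ Q) ∧
      ∀ (σ : S ≃* S) (c : Fˣ), σ (t c) ≠ x) :
    ∃ m, 4 * (p - 1) < m ^ 2 ∧ TCls p m S := by
  rcases Nat.lt_or_ge 1 f with hf2 | hf1
  · refine exists_cls_sq hF hf2 h11 t ht hQ fun c c' σ h => ?_
    obtain ⟨τ, hτ | hτ⟩ := hσ c c' σ h
    · exact ⟨τ, Or.inl (by rw [hτ])⟩
    · exact ⟨τ, Or.inr (by rw [hτ, one_pow])⟩
  · obtain rfl : f = 1 := by omega
    obtain ⟨g, hg⟩ := exists_gen (F := F) (p := p) hF
    have key : ∀ i j : ℕ, 2 * i < p + 1 → 2 * j < p + 1 → ∀ σ : S ≃* S, σ (t (g ^ i)) = t (g ^ j) → i = j := by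
      intro i j hi hj σ h
      obtain ⟨τ, hτ⟩ := hσ _ _ σ h
      obtain ⟨k, hk, hk'⟩ := exists_frob (p := p) hF le_rfl τ
      obtain rfl : k = 0 := by omega
      rw [hk', pow_zero, pow_one] at hτ
      rcases hτ with h1 | h1
      · have h2 : (g : Fˣ) ^ ((j : ℤ) - i) = 1 := by
          rw [zpow_sub, mul_inv_eq_one, zpow_natCast, zpow_natCast]
          exact Units.ext h1
        obtain ⟨s, hs⟩ := hg _ h2
        rw [pow_one] at hs
        have hs0 : s = 0 := by
          by_contra hne
          rcases lt_or_gt_of_ne hne with h3 | h3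
          · have : ((p : ℤ) - 1) * s ≤ - (p - 1) := by nlinarith
            omega
          · have : ((p : ℤ) - 1) ≤ (p - 1) * s := by nlinarith
            omega
        subst hs0
        omega
      · have h2 : (g : Fˣ) ^ ((j : ℤ) + i) = 1 := by
          rw [zpow_add, zpow_natCast, zpow_natCast]
          exact Units.ext h1
        obtain ⟨s, hs⟩ := hg _ h2
        rw [pow_one] at hs
        have hs0 : 0 ≤ s := by
          by_contra hne
          push Not at hne
          have : ((p : ℤ) - 1) * s ≤ - (p - 1) := by nlinarith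
          omega
        have hs1 : s < 2 := by
          by_contra hne
          push Not at hne
          have : ((p : ℤ) - 1) * 2 ≤ (p - 1) * s := by nlinarith
          omega
        have hs2 : s = 0 ∨ s = 1 := by omega
        rcases hs2 with rfl | rfl
        · omega
        · obtain ⟨w, hw⟩ := hp.out.odd_of_ne_two (by omega)
          omega
    rcases Nat.lt_or_ge 11 p with h13 | h13
    · have h13' : 13 ≤ p := by
        obtain ⟨w, hw⟩ := hp.out.odd_of_ne_two (by omega)
        omega
      obtain ⟨w, hw⟩ := hp.out.odd_of_ne_two (by omega)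
      refine ⟨w + 1, ?_, fun i => t (g ^ (i : ℕ)), fun i => ht _, fun i => hQ _, fun i j σ h => ?_⟩
      · obtain ⟨r, rfl⟩ : ∃ r, w = r + 6 := ⟨w - 6, by omega⟩
        rw [hw]
        have : 2 * (r + 6) + 1 - 1 = 2 * r + 12 := by omega
        rw [this]
        nlinarith
      · exact Fin.ext (key i j (by have := i.2; omega) (by have := j.2; omega) σ h)
    · obtain rfl : p = 11 := by omega
      obtain ⟨x, hx1, hx2, hx3⟩ := h0 rfl rfl
      refine ⟨7, by norm_num, fun i => if (i : ℕ) < 6 then t (g ^ (i : ℕ)) else x, fun i => ?_, fun i => ?_,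
        fun i j σ h => ?_⟩
      · dsimp only
        split_ifs
        · exact ht _
        · exact hx1
      · dsimp only
        split_ifs
        · exact hQ _
        · exact hx2
      · dsimp only at h
        by_cases hi : (i : ℕ) < 6
        · by_cases hj : (j : ℕ) < 6
          · rw [if_pos hi, if_pos hj] at h
            exact Fin.ext (key i j (by omega) (by omega) σ h)
          · rw [if_pos hi, if_neg hj] at h
            exact absurd h (hx3 σ _)
        · by_cases hj : (j : ℕ) < 6
          · rw [if_neg hi, if_pos hj] at h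
            exact absurd ((MulEquiv.symm_apply_eq σ).2 h.symm) (hx3 σ.symm _)
          · apply Fin.ext
            have := i.2
            have := j.2
            omega

end cls

section spec

variable {F : Type*} [Field F] {V : Type*} [AddCommGroup V] [Module F V]

/-- The spectra `{a, a⁻¹, 1}` of `s` and `{b, b⁻¹, 1}` of `s'`, and `G s = l s' G` with `G` semilinear bijective. -/
theorem eq_of_spec {s s' : V → V} {a b : F} (ha : a ≠ 0) (hb : b ≠ 0)
    (hs : ∀ x, (∃ v, v ≠ 0 ∧ s v = x • v) ↔ x = a ∨ x = a⁻¹ ∨ x = 1)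
    (hs' : ∀ x, (∃ v, v ≠ 0 ∧ s' v = x • v) ↔ x = b ∨ x = b⁻¹ ∨ x = 1)
    {τ : F ≃+* F} {G : V → V} (hG : Function.Bijective G) (hGa : ∀ (x : F) v, G (x • v) = τ x • G v)
    {l : F} (hl : l ≠ 0) (h : ∀ v, G (s v) = l • s' (G v)) : b = τ a ∨ b * τ a = 1 := by
  have hG0 : G 0 = 0 := by
    have := hGa 0 0
    rwa [zero_smul, map_zero, zero_smul] at this
  have hta : τ a ≠ 0 := by
    rw [Ne, map_eq_zero_iff τ τ.injective]
    exact ha
  have h1 : ∀ x, (x = a ∨ x = a⁻¹ ∨ x = 1) → (l⁻¹ * τ x = b ∨ l⁻¹ * τ x = b⁻¹ ∨ l⁻¹ * τ x = 1) := by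
    intro x hx
    obtain ⟨v, hv, hv'⟩ := (hs x).2 hx
    refine (hs' _).1 ⟨G v, fun h0 => hv (hG.1 (h0.trans hG0.symm)), ?_⟩
    have h2 := h v
    rw [hv', hGa] at h2
    rw [mul_smul, h2, smul_smul, inv_mul_cancel₀ hl, one_smul]
  have h2 : ∀ y, (y = b ∨ y = b⁻¹ ∨ y = 1) → (l * y = τ a ∨ l * y = (τ a)⁻¹ ∨ l * y = 1) := by
    intro y hy
    obtain ⟨w, hw, hw'⟩ := (hs' y).2 hy
    obtain ⟨v, rfl⟩ := hG.2 w
    have h3 : ∃ v, v ≠ 0 ∧ s v = τ.symm (l * y) • v := by
      refine ⟨v, fun h0 => hw (by rw [h0, hG0]), ?_⟩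
      apply hG.1
      rw [h, hw', hGa, smul_smul, RingEquiv.apply_symm_apply]
    rcases (hs _).1 h3 with h4 | h4 | h4
    · left
      rw [← h4, RingEquiv.apply_symm_apply]
    · right; left
      rw [← map_inv₀, ← h4, RingEquiv.apply_symm_apply]
    · right; right
      rw [← map_one τ, ← h4, RingEquiv.apply_symm_apply]
  by_cases hl1 : l = 1
  · subst hl1
    rcases h1 a (Or.inl rfl) with h3 | h3 | h3
    · left
      rw [inv_one, one_mul] at h3
      exact h3.symm
    · right
      rw [inv_one, one_mul] at h3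
      rw [h3, mul_inv_cancel₀ hb]
    · rw [inv_one, one_mul] at h3
      rcases h2 b (Or.inl rfl) with h4 | h4 | h4
      · left
        rwa [one_mul] at h4
      · right
        rw [one_mul] at h4
        rw [h4, inv_mul_cancel₀ hta]
      · left
        rw [one_mul] at h4
        rw [h4, h3]
  · have h3 : l⁻¹ = b ∨ l⁻¹ = b⁻¹ := by
      rcases h1 1 (Or.inr (Or.inr rfl)) with h3 | h3 | h3
      · left
        rwa [map_one, mul_one] at h3
      · right
        rwa [map_one, mul_one] at h3
      · rw [map_one, mul_one, inv_eq_one] at h3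
        exact absurd h3 hl1
    have h4 : l = τ a ∨ l = (τ a)⁻¹ := by
      rcases h2 1 (Or.inr (Or.inr rfl)) with h3 | h3 | h3
      · left
        rwa [mul_one] at h3
      · right
        rwa [mul_one] at h3
      · rw [mul_one] at h3
        exact absurd h3 hl1
    rcases h3 with h3 | h3 <;> rcases h4 with h4 | h4
    · right
      rw [← h3, h4, inv_mul_cancel₀ hta]
    · left
      rw [← h3, h4, inv_inv]
    · left
      rw [← h4]
      exact (inv_injective h3).symm
    · right
      rw [← (inv_injective h3 : l = b), h4, inv_mul_cancel₀ hta]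

/-- Matrix form of `eq_of_spec`. -/
theorem eq_of_spec_mat {ι : Type*} [Fintype ι] [DecidableEq ι] {A B : Matrix ι ι F} {a b : F} (ha : a ≠ 0) (hb : b ≠ 0)
    (hs : ∀ x, (∃ v, v ≠ 0 ∧ A.mulVec v = x • v) ↔ x = a ∨ x = a⁻¹ ∨ x = 1)
    (hs' : ∀ x, (∃ v, v ≠ 0 ∧ B.mulVec v = x • v) ↔ x = b ∨ x = b⁻¹ ∨ x = 1)
    {τ : F ≃+* F} {G : Matrix ι ι F} (hG : IsUnit G)
    {l : F} (hl : l ≠ 0) (h : G * A.map τ = l • (B * G)) : b = τ a ∨ b * τ a = 1 := by
  have hm : ∀ (C : Matrix ι ι F) (v : ι → F), (fun i => τ (C.mulVec v i)) = (C.map τ).mulVec (fun i => τ (v i)) := by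
    intro C v
    funext i
    simp [Matrix.mulVec, dotProduct, map_sum]
  refine eq_of_spec ha hb hs hs' (τ := τ) (G := fun v => G.mulVec (fun i => τ (v i))) ?_ ?_ hl fun v => ?_
  · have h1 : Function.Bijective (fun v : ι → F => G.mulVec v) := by
      obtain ⟨u, rfl⟩ := hG
      refine ⟨fun v w h => ?_, fun w => ⟨(u⁻¹ : (Matrix ι ι F)ˣ).1.mulVec w, ?_⟩⟩
      · have := congrArg (fun z => (u⁻¹ : (Matrix ι ι F)ˣ).1.mulVec z) h
        simpa [Matrix.mulVec_mulVec] using this
      · simp [Matrix.mulVec_mulVec]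
    have h2 : Function.Bijective (fun v : ι → F => fun i => τ (v i)) :=
      ⟨fun v w h => funext fun i => τ.injective (congrFun h i), fun w => ⟨fun i => τ.symm (w i), by simp⟩⟩
    exact h1.comp h2
  · intro x v
    rw [← Matrix.mulVec_smul]
    congr 1
    funext i
    simp
  · rw [hm, Matrix.mulVec_mulVec, h, Matrix.mulVec_mulVec, Matrix.smul_mulVec]

end spec

end Cfsg.Agent.H712.XZ
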