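import Cfsg.Agent.H712.XZ.Psl
import Cfsg.Agent.H563.XZ.OwnTor
import Cfsg.Agent.H198.UnitGamma
import Cfsg.Agent.Nodes.RGDLie

/-!
# S4791 + S4927, own characteristic: `PSU_n` (helper712)

`cls_of_psu` : enough classes of elements of the split torus of `PSU_n(p^f)`, `p ≥ 11`.
-/

set_option autoImplicit false
set_option linter.unusedSectionVars false

open Cfsg Matrix

namespace Cfsg.Agent.H712.XZ

universe u v

section nat

variable {S : Type*} [Group S] {p f : ℕ} [hp : Fact p.Prime]

theorem dvd_mod (k : ℕ) (x y : ℤ) (h : ((p : ℤ) ^ f - 1) ∣ p ^ k * x - y) :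
    ((p : ℤ) ^ f - 1) ∣ p ^ (k % f) * x - y := by
  have h1 : ∀ m : ℕ, ((p : ℤ) ^ f - 1) ∣ (p : ℤ) ^ (f * m) - 1 := by
    intro m
    rw [pow_mul]
    exact sub_one_dvd_pow_sub_one _ m
  have h2 : (p : ℤ) ^ k = p ^ (f * (k / f)) * p ^ (k % f) := by
    rw [← pow_add, Nat.div_add_mod]
  rw [h2] at h
  have h3 : (p : ℤ) ^ (k % f) * x - y = (p ^ (f * (k / f)) * p ^ (k % f) * x - y) -
      (p ^ (f * (k / f)) - 1) * (p ^ (k % f) * x) := by ring
  rw [h3]
  exact dvd_sub h ((h1 _).mul_right _)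

/-- counting, with a cyclic group of order `p ^ f - 1` -/
theorem exists_cls_nat (hf : 1 ≤ f) (h11 : 11 ≤ p) (t : ℕ → S)
    (ht : ∀ i, ¬ p ∣ orderOf (t i)) (hQ : ∀ i, ∃ Q : Sylow p S, ∀ u ∈ Q, t i * u * (t i)⁻¹ ∈ Q)
    (hσ : ∀ (i j : ℕ) (σ : S ≃* S), σ (t i) = t j → ∃ k : ℕ, ((p : ℤ) ^ f - 1) ∣ p ^ k * i - j ∨
      ((p : ℤ) ^ f - 1) ∣ p ^ k * i + j)
    (h0 : p = 11 → f = 1 → ∃ x : S, ¬ p ∣ orderOf x ∧ (∃ Q : Sylow p S, ∀ u ∈ Q, x * u * x⁻¹ ∈ Q) ∧
      ∀ (σ : S ≃* S) (i : ℕ), σ (t i) ≠ x) :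
    ∃ m, 4 * (p - 1) < m ^ 2 ∧ TCls p m S := by
  have hσ' : ∀ (i j : ℕ) (σ : S ≃* S), σ (t i) = t j → ∃ k < f, ((p : ℤ) ^ f - 1) ∣ p ^ k * i - j ∨
      ((p : ℤ) ^ f - 1) ∣ p ^ k * i + j := by
    intro i j σ h
    obtain ⟨k, h1 | h1⟩ := hσ i j σ h
    · exact ⟨k % f, Nat.mod_lt _ hf, Or.inl (dvd_mod k _ _ h1)⟩
    · refine ⟨k % f, Nat.mod_lt _ hf, Or.inr ?_⟩
      rw [← sub_neg_eq_add] at h1 ⊢
      exact dvd_mod k _ _ h1
  rcases Nat.lt_or_ge 1 f with hf2 | hf1
  · refine ⟨p - 1, ?_, fun i => t ((i : ℕ) + 1), fun i => ht _, fun i => hQ _, fun i j σ h => ?_⟩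
    · obtain ⟨r, hr⟩ : ∃ r, p - 1 = r + 5 := ⟨p - 6, by omega⟩
      rw [hr]
      nlinarith
    · have hi := i.2
      have hj := j.2
      obtain ⟨k, hk, hk'⟩ := hσ' _ _ σ h
      have key := nt (p := p) (f := f) (k := k) (i := i + 1) (j := j + 1) hp.out (by omega) hf2 hk (by omega) (by omega)
        (by omega) (by omega) ?_
      · apply Fin.ext
        omega
      · rcases hk' with h1 | h1
        · left
          have := h1.mul_left 2
          rwa [mul_sub] at this
        · right
          have := h1.mul_left 2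
          rwa [mul_add] at this
  · obtain rfl : f = 1 := by omega
    have key : ∀ i j : ℕ, 2 * i < p + 1 → 2 * j < p + 1 → ∀ σ : S ≃* S, σ (t i) = t j → i = j := by
      intro i j hi hj σ h
      obtain ⟨k, hk, hτ⟩ := hσ' _ _ σ h
      obtain rfl : k = 0 := by omega
      rw [pow_zero, one_mul, pow_one] at hτ
      rcases hτ with ⟨s, hs⟩ | ⟨s, hs⟩
      · have hs0 : s = 0 := by
          by_contra hne
          rcases lt_or_gt_of_ne hne with h3 | h3
          · have : ((p : ℤ) - 1) * s ≤ - (p - 1) := by nlinarith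
            omega
          · have : ((p : ℤ) - 1) ≤ (p - 1) * s := by nlinarith
            omega
        subst hs0
        omega
      · have hs0 : 0 ≤ s := by
          by_contra hne
          push Not at hne
          have : ((p : ℤ) - 1) * s ≤ - (p - 1) := by nlinarith
          omega
        have hs1 : s < 2 := by
          by_contra hne
          push Not at hne
          have : ((p : ℤ) - 1) * 2 ≤ (p - 1) * s := by nlinarith
          omega
        have hs2 : s = 0 ∨ s = 1 := by omega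
        rcases hs2 with rfl | rfl
        · omega
        · obtain ⟨w, hw⟩ := hp.out.odd_of_ne_two (by omega)
          omega
    rcases Nat.lt_or_ge 11 p with h13 | h13
    · have h13' : 13 ≤ p := by
        obtain ⟨w, hw⟩ := hp.out.odd_of_ne_two (by omega)
        omega
      obtain ⟨w, hw⟩ := hp.out.odd_of_ne_two (by omega)
      refine ⟨w + 1, ?_, fun i => t (i : ℕ), fun i => ht _, fun i => hQ _, fun i j σ h => ?_⟩
      · obtain ⟨r, rfl⟩ : ∃ r, w = r + 6 := ⟨w - 6, by omega⟩
        rw [hw]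
        have : 2 * (r + 6) + 1 - 1 = 2 * r + 12 := by omega
        rw [this]
        nlinarith
      · exact Fin.ext (key i j (by have := i.2; omega) (by have := j.2; omega) σ h)
    · obtain rfl : p = 11 := by omega
      obtain ⟨x, hx1, hx2, hx3⟩ := h0 rfl rfl
      refine ⟨7, by norm_num, fun i => if (i : ℕ) < 6 then t (i : ℕ) else x, fun i => ?_, fun i => ?_,
        fun i j σ h => ?_⟩
      · dsimp only
        split_ifs
        · exact ht _
        · exact hx1
      · dsimp only
        split_ifs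
        · exact hQ _
        · exact hx2
      · dsimp only at h
        by_cases hi : (i : ℕ) < 6
        · by_cases hj : (j : ℕ) < 6
          · rw [if_pos hi, if_pos hj] at h
            exact Fin.ext (key i j (by omega) (by omega) σ h)
          · rw [if_pos hi, if_neg hj] at h
            exact absurd h (hx3 σ _)
        · by_cases hj : (j : ℕ) < 6
          · rw [if_neg hi, if_pos hj] at h
            exact absurd ((MulEquiv.symm_apply_eq σ).2 h.symm) (hx3 σ.symm _)
          · apply Fin.ext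
            have := i.2
            have := j.2
            omega

end nat

/-! ### Isometries which are diagonal on part of a basis -/

section diag

open Cfsg.Agent.LieClassical.HermBasic

variable {F : Type*} [Field F] [Fintype F] {q n : ℕ} {J : Type*} [Fintype J] [DecidableEq J]

/-- `1 + A B` -/
def DM (q : ℕ) (s : J → J) (u : J → Fin n → F) (c : J → F) : Matrix (Fin n) (Fin n) F :=
  1 + (Matrix.of fun a j => (c j - 1) * u j a) * (Matrix.of fun j b => (u (s j) b) ^ q)

variable {s : J → J} {u : J → Fin n → F} {c : J → F}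

theorem DM_mulVec (v : Fin n → F) : DM q s u c *ᵥ v = v + ∑ j, ((c j - 1) * hermForm n F q v (u (s j))) • u j := by
  rw [DM, add_mulVec, one_mulVec, ← mulVec_mulVec]
  congr 1
  funext a
  simp only [mulVec, dotProduct, Matrix.of_apply, Finset.sum_apply, Pi.smul_apply, smul_eq_mul, hermForm]
  refine Finset.sum_congr rfl fun j _ => ?_
  have : ∑ b, u (s j) b ^ q * v b = ∑ b, v b * u (s j) b ^ q := Finset.sum_congr rfl fun b _ => mul_comm _ _
  rw [this]
  ring

theorem det_DM (hss : ∀ j, s (s j) = j) (hu : ∀ i j, hermForm n F q (u i) (u j) = if i = s j then 1 else 0) :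
    (DM q s u c).det = ∏ j, c j := by
  rw [DM, det_one_add_mul_comm]
  have h1 : (1 : Matrix J J F) + (Matrix.of fun j b => (u (s j) b) ^ q) * (Matrix.of fun a j => (c j - 1) * u j a) =
      diagonal c := by
    ext i j
    rw [Matrix.add_apply, mul_apply]
    have h2 : ∑ a, (Matrix.of fun j b => (u (s j) b) ^ q) i a * (Matrix.of fun a j => (c j - 1) * u j a) a j =
        (c j - 1) * hermForm n F q (u j) (u (s i)) := by
      simp only [Matrix.of_apply, hermForm, Finset.mul_sum]
      exact Finset.sum_congr rfl fun a _ => by ring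
    rw [h2, hu, hss]
    by_cases hij : i = j
    · subst hij
      rw [one_apply_eq, diagonal_apply_eq, if_pos rfl]
      ring
    · rw [one_apply_ne hij, diagonal_apply_ne _ hij, if_neg (Ne.symm hij)]
      ring
  rw [h1, det_diagonal]

theorem herm_DM (hss : ∀ j, s (s j) = j) (hu : ∀ i j, hermForm n F q (u i) (u j) = if i = s j then 1 else 0)
    (v : Fin n → F) (j : J) : hermForm n F q (DM q s u c *ᵥ v) (u (s j)) = c j * hermForm n F q v (u (s j)) := by
  rw [DM_mulVec, herm_add_left, herm_sum_left, Finset.sum_eq_single j]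
  · rw [herm_smul_left, hu, hss, if_pos rfl]
    ring
  · intro i _ hij
    rw [herm_smul_left, hu, hss, if_neg hij, mul_zero]
  · intro h
    exact absurd (Finset.mem_univ _) h

theorem DM_u (hss : ∀ j, s (s j) = j) (hu : ∀ i j, hermForm n F q (u i) (u j) = if i = s j then 1 else 0) (j : J) :
    DM q s u c *ᵥ u j = c j • u j := by
  rw [DM_mulVec, Finset.sum_eq_single j]
  · rw [hu, hss, if_pos rfl]
    module
  · intro i _ hij
    rw [hu, hss, if_neg (Ne.symm hij), mul_zero, zero_smul]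
  · intro h
    exact absurd (Finset.mem_univ _) h

theorem DM_fix {v : Fin n → F} (hv : ∀ j, hermForm n F q v (u (s j)) = 0) : DM q s u c *ᵥ v = v := by
  rw [DM_mulVec, Finset.sum_eq_zero, add_zero]
  intro j _
  rw [hv, mul_zero, zero_smul]

theorem isom_DM (hF : Fintype.card F = q ^ 2) (hss : ∀ j, s (s j) = j)
    (hu : ∀ i j, hermForm n F q (u i) (u j) = if i = s j then 1 else 0) (hc : ∀ j, c j * c (s j) ^ q = 1)
    (v w : Fin n → F) : hermForm n F q (DM q s u c *ᵥ v) (DM q s u c *ᵥ w) = hermForm n F q v w := by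
  have h1 : ∀ j, hermForm n F q (DM q s u c *ᵥ v) (u j) = c (s j) * hermForm n F q v (u j) := by
    intro j
    have := herm_DM (c := c) hss hu v (s j)
    rwa [hss] at this
  conv_lhs => rw [DM_mulVec (v := w)]
  rw [herm_add_right hF, herm_sum_right hF]
  simp only [herm_smul_right, h1]
  rw [DM_mulVec, herm_add_left, herm_sum_left]
  simp only [herm_smul_left]
  have h2 : ∑ j, ((c j - 1) * hermForm n F q w (u (s j))) ^ q * (c (s j) * hermForm n F q v (u j)) =
      ∑ j, ((c (s j) - 1) * hermForm n F q w (u j)) ^ q * (c j * hermForm n F q v (u (s j))) := by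
    refine (Equiv.sum_comp (⟨s, s, hss, hss⟩ : J ≃ J) _).symm.trans ?_
    refine Finset.sum_congr rfl fun j _ => ?_
    simp only [Equiv.coe_fn_mk, hss]
  rw [h2, add_assoc, ← Finset.sum_add_distrib]
  conv_rhs => rw [← add_zero (hermForm n F q v w)]
  congr 1
  refine Finset.sum_eq_zero fun j _ => ?_
  rw [mul_pow, ← herm_swap hF, sub_pow_q hF, one_pow]
  linear_combination (hermForm n F q v (u (s j)) * hermForm n F q (u j) w) * (hc j)

/-- the element of `SU_n` -/
def dsu (hF : Fintype.card F = q ^ 2) (hss : ∀ j, s (s j) = j)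
    (hu : ∀ i j, hermForm n F q (u i) (u j) = if i = s j then 1 else 0) (hc : ∀ j, c j * c (s j) ^ q = 1)
    (hc' : ∏ j, c j = 1) : SU n F q :=
  ⟨⟨DM q s u c, by rw [det_DM hss hu, hc']⟩, isom_DM hF hss hu hc⟩

theorem eig_DM (hss : ∀ j, s (s j) = j) (hu : ∀ i j, hermForm n F q (u i) (u j) = if i = s j then 1 else 0) (j : J) :
    Eig (DM q s u c) (c j) := by
  refine ⟨u j, ?_, DM_u hss hu j⟩
  intro h
  have h1 := hu j (s j)
  rw [hss, if_pos rfl, h, herm_zero_left] at h1
  exact zero_ne_one h1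

theorem eig_DM_iff (hss : ∀ j, s (s j) = j) (hu : ∀ i j, hermForm n F q (u i) (u j) = if i = s j then 1 else 0)
    (hne : ∃ v, v ≠ 0 ∧ ∀ j, hermForm n F q v (u j) = 0) (x : F) :
    Eig (DM q s u c) x ↔ (∃ j, x = c j) ∨ x = 1 := by
  constructor
  · rintro ⟨v, hv, h⟩
    by_cases h0 : ∀ j, hermForm n F q v (u (s j)) = 0
    · right
      rw [DM_fix h0] at h
      by_contra hx
      apply hv
      have h2 : (x - 1) • v = 0 := by rw [sub_smul, ← h, one_smul, sub_self]
      exact (smul_eq_zero.1 h2).resolve_left (sub_ne_zero.2 hx)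
    · left
      push Not at h0
      obtain ⟨j, hj⟩ := h0
      refine ⟨j, ?_⟩
      have h1 := herm_DM (c := c) hss hu v j
      rw [h, herm_smul_left] at h1
      exact mul_right_cancel₀ hj h1
  · rintro (⟨j, rfl⟩ | rfl)
    · exact eig_DM hss hu j
    · obtain ⟨v, hv, hv'⟩ := hne
      refine ⟨v, hv, ?_⟩
      rw [DM_fix fun j => hv' _, one_smul]

end diag

section psu

open Cfsg.Agent.LieClassical.HermBasic Cfsg.Agent.LieClassical.SUBasic
open Cfsg.Agent.LieClassical.HermSiegel (mat)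
open Cfsg.Agent.ChevalleyStructure.CoxeterGeom Cfsg.Agent.Tits.Roots
open Cfsg.Agent.Nodes.Comb Cfsg.Agent.Nodes.Reps Cfsg.Agent.Nodes.WittRoot Cfsg.Agent.Nodes.BNOf
open Cfsg.Agent.Nodes Cfsg.Agent.Nodes.RGDLib Cfsg.Agent.Nodes.WittAll Cfsg.Agent.Nodes.WittU Cfsg.Agent.Nodes.RGDChev
open Cfsg.Agent.Nodes.WittInst
open Cfsg.Agent.Nodes.WittRGD (Tor mem_Tor)
open Cfsg.Agent.TitsThree Cfsg.Agent.TitsThree.Siegel Cfsg.Agent.TitsThree.SiegelGen
  Cfsg.Agent.TitsThree.WittFrame Cfsg.Agent.TitsThree.WBridge Cfsg.Agent.TitsThree.WittWeyl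
  Cfsg.Agent.TitsThree.FrameCN
open Cfsg.Agent.TitsThree.KSideU Cfsg.Agent.TitsThree.KSideUDesc

variable {F : Type*} [Field F] [Fintype F] {q N : ℕ}

/-- the torus of `PSU` -/
theorem torus_psu (hF : Fintype.card F = q ^ 2) (hN : 3 ≤ N) (hN3 : ¬ (N = 3 ∧ q = 2)) {p : ℕ} [hp : Fact p.Prime]
    [CharP F p] {m : ℕ} (hm : 0 < m) (W : WFrame (PU hF N) m) (g : SU N F q)
    (hg : ∀ x : Fin m × Bool, ∃ l : F, l ≠ 0 ∧ mat g *ᵥ (toFrame W).b x = l • (toFrame W).b x) :
    ¬ p ∣ orderOf (QuotientGroup.mk g : PSU N F q) ∧ ∃ Q : Sylow p (PSU N F q), ∀ u ∈ (Q : Subgroup _),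
      (QuotientGroup.mk g : PSU N F q) * u * (QuotientGroup.mk g)⁻¹ ∈ (Q : Subgroup _) := by
  have hs : IsSimpleGroup (PSU N F q) := Cfsg.Agent.S0283.result hF N hN hN3
  obtain ⟨p0, hp0, -⟩ := exists_adm hF W
  have hA := AmbT.of_amb (amb_U hF W) p
  have R := rgdC_model (KInstU.model hF hN W) hA hp0 (CoxeterMatrix.B m).toCoxeterSystem
  have : Finite (CoxeterMatrix.B m).Group := TypeC.finite_W (CoxeterMatrix.B m).toCoxeterSystem
  have : Nonempty (Fin m) := ⟨⟨0, hm⟩⟩
  obtain ⟨Q, hQ⟩ := Cfsg.Agent.H563.XZ.OwnTor.torus_of_rgd hp R (WittModel.G1_eq_top _ hm _)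
  have h1 : (QuotientGroup.mk g : PSU N F q) ∈ WittModel.T (KInstU.model hF hN W) := by
    have h2 : toLin F q N g ∈ IU F q N := ⟨g, rfl⟩
    refine ⟨⟨toLin F q N g, h2⟩, ?_, ?_⟩
    · refine Subgroup.mem_subgroupOf.2 ⟨h2, fun x => ?_⟩
      obtain ⟨l, hl, hl'⟩ := hg x
      exact ⟨l, hl, hl'⟩
    · show toPSU F q N ⟨toLin F q N g, h2⟩ = _
      have h3 : ofRange F q N ⟨toLin F q N g, h2⟩ = g := by
        apply toLin_injective
        rw [toLin_ofRange]
      show QuotientGroup.mk (ofRange F q N ⟨toLin F q N g, h2⟩) = _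
      rw [h3]
  exact ⟨(hQ _ h1).1, Q, (hQ _ h1).2⟩

/-- automorphisms of `PSU` on the level of matrices -/
theorem exists_form_psu (hF : Fintype.card F = q ^ 2) (hN : 3 ≤ N) (hN3 : ¬ (N = 3 ∧ q = 2))
    (β : PSU N F q ≃* PSU N F q) (g g' : SU N F q)
    (h : β (QuotientGroup.mk g) = QuotientGroup.mk g') :
    ∃ (A : Matrix (Fin N) (Fin N) F) (τ : F ≃+* F) (l : F), IsUnit A ∧ l ≠ 0 ∧
      A * (mat g).map τ = l • (mat g' * A) := by
  obtain ⟨A, τ, rfl⟩ := Cfsg.Agent.ClassicalGeometry.PSUAutMain.exists_toAut hF hN hN3 β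
  rw [Cfsg.Agent.H198.UnitGamma.mk_toAut] at h
  obtain ⟨z, hz, hz'⟩ := Cfsg.Agent.ClassicalGeometry.PSUAutBasic.exists_center_mul h
  obtain ⟨c, hcn, hcq, rfl⟩ := (mem_center_SU_iff hF hN z).1 hz
  have hc0 : c ≠ 0 := by
    rintro rfl
    rw [zero_pow (by omega)] at hcq
    exact zero_ne_one hcq
  refine ⟨Cfsg.Agent.ClassicalGeometry.PSUAutCount.gm A, τ, c⁻¹, ?_, inv_ne_zero hc0, ?_⟩
  · exact ⟨⟨_, _, Cfsg.Agent.ClassicalGeometry.PSUAutCount.gm_mul_inv A,
      Cfsg.Agent.ClassicalGeometry.PSUAutCount.gm_inv_mul A⟩, rfl⟩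
  · have h1 : mat g' = c • (Cfsg.Agent.ClassicalGeometry.PSUAutCount.gm A * (mat g).map τ *
        Cfsg.Agent.ClassicalGeometry.PSUAutCount.gm A⁻¹) := by
      rw [hz', Cfsg.Agent.LieClassical.HermSiegel.mat_mul, Cfsg.Agent.H198.UnitGamma.mat_semiConj]
      show _ * Matrix.diagonal (fun _ => c) = _
      rw [← smul_one_eq_diagonal, Matrix.mul_smul, Matrix.mul_one]
    rw [h1, Matrix.smul_mul, smul_smul, inv_mul_cancel₀ hc0, one_smul, Matrix.mul_assoc,
      Cfsg.Agent.ClassicalGeometry.PSUAutCount.gm_inv_mul, Matrix.mul_one]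

/-! ### The elements of the torus -/

variable {hF : Fintype.card F = q ^ 2}

/-- the coordinates `a i`, `(a i)⁻¹` -/
def cw {k : ℕ} (a : Fin k → F) (x : Fin k × Bool) : F := if x.2 then a x.1 else (a x.1)⁻¹

theorem prod_cw {k : ℕ} (a : Fin k → F) (ha : ∀ i, a i ≠ 0) : ∏ x, cw a x = 1 := by
  rw [Fintype.prod_prod_type]
  refine Finset.prod_eq_one fun i _ => ?_
  rw [Fintype.prod_bool]
  simp [cw, ha i]

theorem cw_mul {k : ℕ} (a : Fin k → F) (ha : ∀ i, a i ≠ 0) (haq : ∀ i, a i ^ q = a i) (x : Fin k × Bool) :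
    cw a x * cw a (x.1, !x.2) ^ q = 1 := by
  obtain ⟨i, b⟩ := x
  cases b
  · simp [cw, ha i, haq i]
  · simp [cw, ha i, haq i]

/-- part of the frame -/
def bw {m k : ℕ} (hk : k ≤ m) (W : WFrame (PU hF N) m) (x : Fin k × Bool) : Fin N → F :=
  if x.2 then W.e (Fin.castLE hk x.1) else W.f (Fin.castLE hk x.1)

theorem herm_bw {m k : ℕ} (hk : k ≤ m) (W : WFrame (PU hF N) m) (x y : Fin k × Bool) :
    hermForm N F q (bw hk W x) (bw hk W y) = if x = (y.1, !y.2) then 1 else 0 := by
  have h1 := fun i j => W.ee i j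
  have h2 := fun i j => W.ff i j
  have h3 := fun i j => W.ef i j
  have h4 := fun i j => W.fe i j
  simp only [HU_h, HU_ε] at h1 h2 h3 h4
  obtain ⟨i, a⟩ := x
  obtain ⟨j, b⟩ := y
  cases a <;> cases b <;> simp [bw, h1, h2, h3, h4]

/-- elements of the torus of `SU_n` -/
def tw {m k : ℕ} (hk : k ≤ m) (W : WFrame (PU hF N) m) (a : Fin k → F) (ha : ∀ i, a i ≠ 0)
    (haq : ∀ i, a i ^ q = a i) : SU N F q :=
  dsu hF (s := fun x : Fin k × Bool => (x.1, !x.2)) (u := bw hk W) (c := cw a) (fun x => by simp)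
    (herm_bw hk W) (cw_mul a ha haq) (prod_cw a ha)

theorem mono_tw {m k : ℕ} (hk : k ≤ m) (W : WFrame (PU hF N) m) (a : Fin k → F) (ha : ∀ i, a i ≠ 0)
    (haq : ∀ i, a i ^ q = a i) (x : Fin m × Bool) :
    ∃ l : F, l ≠ 0 ∧ mat (tw hk W a ha haq) *ᵥ (toFrame W).b x = l • (toFrame W).b x := by
  obtain ⟨i, b⟩ := x
  by_cases hi : (i : ℕ) < k
  · have h1 : (toFrame W).b (i, b) = bw hk W (⟨i, hi⟩, b) := rfl
    refine ⟨cw a (⟨i, hi⟩, b), ?_, ?_⟩
    · unfold cw
      split_ifs
      · exact ha _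
      · exact inv_ne_zero (ha _)
    · rw [h1]
      exact DM_u (s := fun x : Fin k × Bool => (x.1, !x.2)) (fun x => by simp) (herm_bw hk W) _
  · refine ⟨1, one_ne_zero, ?_⟩
    rw [one_smul]
    refine DM_fix fun y => ?_
    have h1 : (toFrame W).b (i, b) = bw le_rfl W (i, b) := rfl
    have h2 : bw hk W (y.1, !y.2) = bw le_rfl W (Fin.castLE hk y.1, !y.2) := rfl
    show hermForm N F q ((toFrame W).b (i, b)) (bw hk W (y.1, !y.2)) = 0
    rw [h1, h2, herm_bw, if_neg]
    intro h3
    have h4 := congrArg (fun z : Fin m × Bool => (z.1 : ℕ)) h3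
    simp only [Fin.val_castLE] at h4
    exact hi (h4 ▸ y.1.2)

theorem eig_tw {m : ℕ} (hk : 1 ≤ m) (W : WFrame (PU hF N) m) (c : F) (hc : c ≠ 0) (hcq : c ^ q = c)
    (hne : ∃ v, v ≠ 0 ∧ ∀ j, hermForm N F q v (bw hk W j) = 0) (x : F) :
    Eig (mat (tw hk W (fun _ => c) (fun _ => hc) fun _ => hcq)) x ↔ x = c ∨ x = c⁻¹ ∨ x = 1 := by
  refine (eig_DM_iff (s := fun x : Fin 1 × Bool => (x.1, !x.2)) (fun x => by simp) (herm_bw hk W) hne x).trans ?_
  constructor
  · rintro (⟨⟨i, b⟩, hb⟩ | h)
    · cases b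
      · right; left
        exact hb
      · left
        exact hb
    · right; right
      exact h
  · rintro (h | h | h)
    · left
      exact ⟨(0, true), h⟩
    · left
      exact ⟨(0, false), h⟩
    · right
      exact h

theorem spec_three {a b c e l : F} (hab : a ≠ b) (hac : a ≠ c) (hbc : b ≠ c) (hl : l ≠ 0) (he : e ≠ 0)
    (h1 : a * b * c = 1) (ha : a ^ 3 ≠ 1) (hb : b ^ 3 ≠ 1) (hc : c ^ 3 ≠ 1)
    (h : ∀ x, (x = a ∨ x = b ∨ x = c) → (l * x = e ∨ l * x = e⁻¹ ∨ l * x = 1)) : False := by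
  have key : ∀ x y z : F, x ≠ y → l * x = z → l * y = z → False := fun x y z hxy h1 h2 =>
    hxy (mul_left_cancel₀ hl (h1.trans h2.symm))
  have key2 : ∀ x y z : F, x * y * z = 1 → x ^ 3 ≠ 1 → l * x = 1 → l * y = e → l * z = e⁻¹ → False := by
    intro x y z h1 h2 h3 h4 h5
    apply h2
    have h6 : l ^ 3 = 1 := by
      have h7 : (l * x) * (l * y) * (l * z) = 1 := by
        rw [h3, h4, h5, one_mul, mul_inv_cancel₀ he]
      linear_combination h7 - l ^ 3 * h1
    have h7 : (l * x) ^ 3 = 1 := by rw [h3, one_pow]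
    rwa [mul_pow, h6, one_mul] at h7
  have hA := h a (Or.inl rfl)
  have hB := h b (Or.inr (Or.inl rfl))
  have hC := h c (Or.inr (Or.inr rfl))
  rcases hA with hA | hA | hA <;> rcases hB with hB | hB | hB <;> rcases hC with hC | hC | hC <;>
    first
    | exact key _ _ _ hab hA hB
    | exact key _ _ _ hac hA hC
    | exact key _ _ _ hbc hB hC
    | exact key2 a b c h1 ha hA hB hC
    | exact key2 a c b (by linear_combination h1) ha hA hC hB
    | exact key2 b a c (by linear_combination h1) hb hB hA hC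
    | exact key2 b c a (by linear_combination h1) hb hB hC hA
    | exact key2 c a b (by linear_combination h1) hc hC hA hB
    | exact key2 c b a (by linear_combination h1) hc hC hB hA

/-- a generator of the multiplicative group -/
theorem exists_gen_sq {p f : ℕ} [hp : Fact p.Prime] (hF : Fintype.card F = q ^ 2) (hq : q = p ^ f) :
    ∃ g : Fˣ, (∀ n : ℤ, g ^ n = 1 → ((p : ℤ) ^ f - 1) * (p ^ f + 1) ∣ n) ∧ g ^ ((q + 1) * (q - 1)) = 1 := by
  classical
  have hF' : Fintype.card F = p ^ (2 * f) := by rw [hF, hq, ← pow_mul, mul_comm]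
  obtain ⟨g, hg⟩ := exists_gen (F := F) (p := p) hF'
  refine ⟨g, fun n hn => ?_, ?_⟩
  · have := hg n hn
    rwa [mul_comm 2 f, pow_mul, show ((p : ℤ) ^ f) ^ 2 - 1 = (p ^ f - 1) * (p ^ f + 1) by ring] at this
  · have h1 := card_units_eq hF
    rw [← h1]
    exact pow_card_eq_one'

theorem core_psu {p f : ℕ} [hp : Fact p.Prime] [CharP F p] (h11 : 11 ≤ p) (hq : q = p ^ f) (hf : 1 ≤ f)
    (hN : 3 ≤ N) {m : ℕ} (hm : 1 ≤ m) (W : WFrame (PU hF N) m)
    (hne : ∃ v, v ≠ 0 ∧ ∀ j, hermForm N F q v (bw hm W j) = 0)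
    (h0 : p = 11 → f = 1 → ∃ x : SU N F q, (∀ y : Fin m × Bool, ∃ l : F, l ≠ 0 ∧ mat x *ᵥ (toFrame W).b y =
      l • (toFrame W).b y) ∧ ∀ e l : F, e ≠ 0 → l ≠ 0 → ¬ ∀ y, Eig (mat x) y → (l * y = e ∨ l * y = e⁻¹ ∨ l * y = 1)) :
    ∃ m, 4 * (p - 1) < m ^ 2 ∧ TCls p m (PSU N F q) := by
  have hqp : 11 ≤ q := by
    rw [hq]
    exact h11.trans (Nat.le_self_pow (by omega) p)
  have hN3 : ¬ (N = 3 ∧ q = 2) := by omega
  obtain ⟨g, hg, hg'⟩ := exists_gen_sq (p := p) hF hq
  set α : Fˣ := g ^ (q + 1) with hα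
  have hαq : α ^ (q - 1) = 1 := by rw [hα, ← pow_mul, hg']
  have hαq' : α ^ q = α := by
    obtain ⟨r, hr⟩ : ∃ r, q = r + 1 := ⟨q - 1, by omega⟩
    rw [hr, Nat.add_sub_cancel] at hαq
    rw [hr, pow_succ, hαq, one_mul]
  have hβ : ∀ i : ℕ, ((α : F) ^ i) ^ q = (α : F) ^ i := by
    intro i
    rw [← pow_mul, mul_comm, pow_mul]
    congr 1
    rw [← Units.val_pow_eq_pow_val, hαq']
  have hβ0 : ∀ i : ℕ, (α : F) ^ i ≠ 0 := fun i => pow_ne_zero i α.ne_zero
  have hdvd : ∀ z : ℤ, α ^ z = 1 → ((p : ℤ) ^ f - 1) ∣ z := by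
    intro z hz
    have h1 : g ^ (((q : ℤ) + 1) * z) = 1 := by
      rw [_root_.zpow_mul, ← hz, hα]
      congr 1
    have h2 := hg _ h1
    have h3 : ((q : ℤ) + 1) = p ^ f + 1 := by
      rw [hq]
      push_cast
      rfl
    rw [h3, mul_comm] at h2
    exact Int.dvd_of_mul_dvd_mul_left (by positivity) h2
  let t : ℕ → PSU N F q := fun i => QuotientGroup.mk (tw hm W (fun _ => (α : F) ^ i) (fun _ => hβ0 i) fun _ => hβ i)
  have htor : ∀ i, ¬ p ∣ orderOf (t i) ∧ ∃ Q : Sylow p (PSU N F q), ∀ u ∈ (Q : Subgroup _),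
      t i * u * (t i)⁻¹ ∈ (Q : Subgroup _) := fun i =>
    torus_psu hF hN hN3 hm W _ (mono_tw hm W _ _ _)
  refine exists_cls_nat hf h11 t (fun i => (htor i).1) (fun i => (htor i).2) (fun i j σ h => ?_) fun hp11 hf1 => ?_
  · obtain ⟨A, τ, l, hA, hl, hl'⟩ := exists_form_psu hF hN hN3 σ _ _ h
    have h1 := eq_of_spec_mat (hβ0 i) (hβ0 j) (eig_tw hm W _ (hβ0 i) (hβ i) hne) (eig_tw hm W _ (hβ0 j) (hβ j) hne)
      hA hl hl'
    have hF' : Fintype.card F = p ^ (2 * f) := by rw [hF, hq, ← pow_mul, mul_comm]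
    obtain ⟨k, -, hk⟩ := exists_frob (p := p) hF' (by omega) τ
    rw [hk] at h1
    refine ⟨k, ?_⟩
    have e1 : (α : Fˣ) ^ ((p : ℤ) ^ k * i) = (α ^ i) ^ p ^ k := by
      rw [← pow_mul, ← zpow_natCast]
      congr 1
      push_cast
      ring
    rcases h1 with h1 | h1
    · left
      apply hdvd
      rw [_root_.zpow_sub, mul_inv_eq_one, e1, zpow_natCast]
      apply Units.ext
      push_cast
      exact h1.symm
    · right
      apply hdvd
      rw [_root_.zpow_add, e1, zpow_natCast, mul_comm]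
      apply Units.ext
      push_cast
      exact h1
  · obtain ⟨x, hx, hx'⟩ := h0 hp11 hf1
    obtain ⟨h1, h2⟩ := torus_psu (p := p) hF hN hN3 hm W x hx
    refine ⟨QuotientGroup.mk x, h1, h2, fun σ i h => ?_⟩
    obtain ⟨A, τ, l, hA, hl, hl'⟩ := exists_form_psu hF hN hN3 σ _ _ h
    refine hx' (τ ((α : F) ^ i)) l ((map_ne_zero_iff τ τ.injective).2 (hβ0 i)) hl fun y hy => ?_
    obtain ⟨z, hz, rfl⟩ := Eig.comap hl hA hl' hy
    rw [← mul_assoc, mul_inv_cancel₀ hl, one_mul]
    rcases (eig_tw hm W _ (hβ0 i) (hβ i) hne z).1 hz with rfl | rfl | rfl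
    · exact Or.inl rfl
    · right; left
      rw [map_inv₀]
    · right; right
      rw [map_one]

theorem exists_cls_psu {p f : ℕ} [hp : Fact p.Prime] [CharP F p] (h11 : 11 ≤ p) (hF : Fintype.card F = q ^ 2)
    (hq : q = p ^ f) (hf : 1 ≤ f) (hN : 3 ≤ N) : ∃ m, 4 * (p - 1) < m ^ 2 ∧ TCls p m (PSU N F q) := by
  obtain ⟨m, hm⟩ : ∃ m, N = 2 * m ∨ N = 2 * m + 1 := ⟨N / 2, by omega⟩
  have hm1 : 1 ≤ m := by omega
  obtain ⟨g, hg, hg'⟩ := exists_gen_sq (p := p) hF hq
  rcases Nat.lt_or_ge 1 m with hm2 | hm2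
  · obtain ⟨W, -⟩ := exists_wframe hF hm
    refine core_psu h11 hq hf hN hm1 W ⟨W.e ⟨1, hm2⟩, ?_, fun j => ?_⟩ fun hp11 hf1 => ?_
    · intro h
      have h3 := W.ef ⟨1, hm2⟩ ⟨1, hm2⟩
      rw [if_pos rfl, h, HForm.zero_left] at h3
      exact zero_ne_one h3
    · have h1 : W.e ⟨1, hm2⟩ = bw le_rfl W (⟨1, hm2⟩, true) := rfl
      have h2 : bw hm1 W j = bw le_rfl W (Fin.castLE hm1 j.1, j.2) := rfl
      rw [h1, h2, herm_bw, if_neg]
      intro h3
      have h4 := congrArg (fun z : Fin m × Bool => (z.1 : ℕ)) h3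
      have h5 := j.1.2
      simp only [Fin.val_castLE] at h4
      omega
    · set α : Fˣ := g ^ (q + 1) with hα
      have hαq : α ^ (q - 1) = 1 := by rw [hα, ← pow_mul, hg']
      have hαq' : α ^ q = α := by
        obtain ⟨r, hr⟩ : ∃ r, q = r + 1 := ⟨q - 1, by have := q_pos hF; omega⟩
        rw [hr, Nat.add_sub_cancel] at hαq
        rw [hr, pow_succ, hαq, one_mul]
      have hk : ∀ k : ℕ, 1 ≤ k → k ≤ 4 → (α : F) ^ k ≠ 1 := by
        intro k hk hk' h1
        have h2 : g ^ (((q + 1) * k : ℕ) : ℤ) = 1 := by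
          rw [zpow_natCast, pow_mul]
          apply Units.ext
          push_cast at h1 ⊢
          exact h1
        have h3 := hg _ h2
        subst hp11 hf1
        rw [hq] at h3
        have h4 := Int.le_of_dvd (by positivity) h3
        push_cast at h4
        omega
      have hα0 : (α : F) ≠ 0 := α.ne_zero
      have hαF : (α : F) ^ q = α := by rw [← Units.val_pow_eq_pow_val, hαq']
      refine ⟨tw hm2 W ![(α : F), (α : F) ^ 2] (by
        intro i
        fin_cases i
        · exact hα0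
        · exact pow_ne_zero 2 hα0) (by
        intro i
        fin_cases i
        · exact hαF
        · show ((α : F) ^ 2) ^ q = (α : F) ^ 2
          rw [← pow_mul, mul_comm, pow_mul, hαF]), mono_tw hm2 W _ _ _, fun e l he hl h => ?_⟩
      have h1 := hk 1 (by norm_num) (by norm_num)
      have h2 := hk 2 (by norm_num) (by norm_num)
      have h3 := hk 3 (by norm_num) (by norm_num)
      have h4 := hk 4 (by norm_num) (by norm_num)
      refine Cfsg.Agent.H563.XZ.OwnTor.spec_ne (a := (α : F)) (b := (α : F)⁻¹) (c := (α : F) ^ 2)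
        (d := ((α : F) ^ 2)⁻¹) (e := e) (l := l) ?_ ?_ ?_ ?_ ?_ ?_ hl fun x hx => h x ?_
      · intro h5
        apply h2
        field_simp at h5
        linear_combination h5
      · intro h5
        apply h1
        have : (α : F) * ((α : F) - 1) = 0 := by linear_combination -h5
        rcases mul_eq_zero.1 this with h6 | h6
        · exact absurd h6 hα0
        · linear_combination h6
      · intro h5
        apply h3
        field_simp at h5
        linear_combination h5
      · intro h5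
        apply h3
        field_simp at h5
        linear_combination -h5
      · intro h5
        apply h1
        field_simp at h5
        linear_combination h5
      · intro h5
        apply h4
        field_simp at h5
        linear_combination h5
      · have key : ∀ j : Fin 2 × Bool, Eig (mat (tw hm2 W ![(α : F), (α : F) ^ 2] (by
            intro i
            fin_cases i
            · exact hα0
            · exact pow_ne_zero 2 hα0) (by
            intro i
            fin_cases i
            · exact hαF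
            · show ((α : F) ^ 2) ^ q = (α : F) ^ 2
              rw [← pow_mul, mul_comm, pow_mul, hαF]))) (cw ![(α : F), (α : F) ^ 2] j) := fun j =>
          eig_DM (s := fun x : Fin 2 × Bool => (x.1, !x.2)) (fun x => by simp) (herm_bw hm2 W) j
        rcases hx with rfl | rfl | rfl | rfl
        · exact key (0, true)
        · exact key (0, false)
        · exact key (1, true)
        · exact key (1, false)
  · obtain rfl : m = 1 := by omega
    obtain rfl : N = 3 := by omega
    obtain ⟨W, d, hd, hW⟩ := exists_wframe_odd (N := 3) hF (m := 1) rfl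
    have hdW : d ∈ W.V0 := by
      rw [hW]
      exact Submodule.mem_span_singleton_self d
    have hde : ∀ i, hermForm 3 F q d (W.e i) = 0 := fun i => W.V0e d hdW i
    have hdf : ∀ i, hermForm 3 F q d (W.f i) = 0 := fun i => W.V0f d hdW i
    have hed : ∀ i, hermForm 3 F q (W.e i) d = 0 := fun i => W.eV0 i hdW
    have hfd : ∀ i, hermForm 3 F q (W.f i) d = 0 := fun i => W.fV0 i hdW
    refine core_psu h11 hq hf hN le_rfl W ⟨d, ?_, fun j => ?_⟩ fun hp11 hf1 => ?_
    · rintro rfl
      rw [herm_zero_left] at hd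
      exact zero_ne_one hd
    · obtain ⟨i, b⟩ := j
      cases b
      · exact hdf i
      · exact hde i
    · have hg0 : (g : F) ≠ 0 := g.ne_zero
      have hqq : ((g : F) ^ q) ^ q = g := pow_q_pow_q hF _
      let s : Option Bool → Option Bool := Option.map (fun b => !b)
      let u : Option Bool → Fin 3 → F := fun x => match x with
        | none => d
        | some true => W.e 0
        | some false => W.f 0
      let c : Option Bool → F := fun x => match x with
        | none => (g : F) ^ q * (g : F)⁻¹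
        | some true => g
        | some false => ((g : F) ^ q)⁻¹
      have hss : ∀ j, s (s j) = j := by
        intro j
        rcases j with _ | b
        · rfl
        · cases b <;> rfl
      have hu : ∀ i j, hermForm 3 F q (u i) (u j) = if i = s j then 1 else 0 := by
        have h1 := W.ee 0 0
        have h2 := W.ff 0 0
        have h3 := W.ef 0 0
        have h4 := W.fe 0 0
        simp only [HU_h, HU_ε] at h1 h2 h3 h4
        intro i j
        rcases i with _ | a
        · rcases j with _ | b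
          · exact hd
          · cases b
            · exact hdf 0
            · exact hde 0
        · rcases j with _ | b
          · cases a
            · exact hfd 0
            · exact hed 0
          · cases a <;> cases b
            · exact h2
            · exact h4
            · exact h3
            · exact h1
      have hgq0 : (g : F) ^ q ≠ 0 := pow_ne_zero _ hg0
      have hc : ∀ j, c j * c (s j) ^ q = 1 := by
        intro j
        rcases j with _ | b
        · show ((g : F) ^ q * (g : F)⁻¹) * ((g : F) ^ q * (g : F)⁻¹) ^ q = 1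
          rw [mul_pow, hqq, inv_pow]
          field_simp
        · cases b
          · show ((g : F) ^ q)⁻¹ * (g : F) ^ q = 1
            exact inv_mul_cancel₀ hgq0
          · show (g : F) * (((g : F) ^ q)⁻¹) ^ q = 1
            rw [inv_pow, hqq, mul_inv_cancel₀ hg0]
      have hc' : ∏ j, c j = 1 := by
        rw [Fintype.prod_option, Fintype.prod_bool]
        show (g : F) ^ q * (g : F)⁻¹ * ((g : F) * ((g : F) ^ q)⁻¹) = 1
        field_simp
      refine ⟨dsu hF hss hu hc hc', fun y => ?_, fun e l he hl h => ?_⟩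
      · obtain ⟨i, b⟩ := y
        obtain rfl : i = 0 := Subsingleton.elim _ _
        cases b
        · exact ⟨_, inv_ne_zero hgq0, DM_u hss hu (some false)⟩
        · exact ⟨_, hg0, DM_u hss hu (some true)⟩
      · have hq11 : q = 11 := by rw [hq, hp11, hf1, pow_one]
        have hk : ∀ k : ℕ, 1 ≤ k → k < 120 → (g : F) ^ k ≠ 1 := by
          intro k hk hk' h1
          have h2 : g ^ ((k : ℕ) : ℤ) = 1 := by
            rw [zpow_natCast]
            apply Units.ext
            push_cast
            exact h1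
          have h3 := hg _ h2
          rw [hp11, hf1] at h3
          have h4 := Int.le_of_dvd (by positivity) h3
          norm_num at h4
          omega
        subst hq11
        refine spec_three (a := (g : F)) (b := ((g : F) ^ 11)⁻¹) (c := (g : F) ^ 11 * (g : F)⁻¹) (e := e) (l := l)
          ?_ ?_ ?_ hl he ?_ ?_ ?_ ?_ fun x hx => h x ?_
        · intro h5
          apply hk 12 (by norm_num) (by norm_num)
          field_simp at h5
          linear_combination h5
        · intro h5
          apply hk 9 (by norm_num) (by norm_num)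
          field_simp at h5
          exact h5.symm
        · intro h5
          apply hk 21 (by norm_num) (by norm_num)
          field_simp at h5
          exact h5.symm
        · field_simp
        · exact hk 3 (by norm_num) (by norm_num)
        · intro h5
          apply hk 33 (by norm_num) (by norm_num)
          rw [inv_pow, inv_eq_one, ← pow_mul] at h5
          exact h5
        · intro h5
          apply hk 30 (by norm_num) (by norm_num)
          have h6 : (g : F) ^ 11 * (g : F)⁻¹ = (g : F) ^ 10 := by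
            field_simp
          rw [h6, ← pow_mul] at h5
          exact h5
        · have key := eig_DM (c := c) hss hu
          rcases hx with rfl | rfl | rfl
          · exact key (some true)
          · exact key (some false)
          · exact key none

/-- **own characteristic, `PSU_n`** -/
theorem cls_of_psu {p : ℕ} [hp : Fact p.Prime] {S : Type u} [Group S] [Finite S] (h11 : 11 ≤ p) (h : IsPSUChar p S) :
    ∃ m, 4 * (p - 1) < m ^ 2 ∧ TCls p m S := by
  obtain ⟨F, _, _, _, n, q, hF, hn, -, ⟨e⟩⟩ := h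
  obtain ⟨r, f, hr, hr', hq, hf⟩ := exists_prime_pow hF
  obtain rfl : p = r := CharP.eq F ‹_› hr'
  obtain ⟨m, hm, hm'⟩ := exists_cls_psu (p := p) h11 hF hq hf hn
  exact ⟨m, hm, hm'.congr e.symm⟩

end psu

end Cfsg.Agent.H712.XZ
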