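import Cfsg.Agent.H712.XZ.OwnLie
import Cfsg.Agent.H712.XZ.Psl
import Cfsg.Agent.H712.XZ.Psu
import Cfsg.Agent.H563.XZ.OwnSpRow
import Cfsg.Agent.H563.XZ.OwnOmRow
import Cfsg.Agent.H79.XZ.Plus
import Cfsg.Agent.H143.Own.Untw
import Cfsg.Agent.H143.Own.Tw
import Cfsg.Agent.H668.XZ.C3
import Cfsg.Agent.H508.XR.Defs2

/-!
# S4791 + S4927, own characteristic: the row (helper712)
-/

set_option autoImplicit false
set_option linter.unusedSectionVars false

open Cfsg

namespace Cfsg.Agent.H712.XZ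

open Cfsg.Agent.H674.XZ Cfsg.Agent.H668.XZ Cfsg.Agent.H508.XR

universe u

variable {p : ℕ} [hp : Fact p.Prime] {S : Type u} [Group S] [Finite S] {M : Ideal AlgInt}

/-- the row from enough classes of elements of the torus -/
theorem row0_of_cls (hM : IsPModular p M) (h : IsLieTypeChar p S) (hc : ∃ m, 4 * (p - 1) < m ^ 2 ∧ TCls p m S) :
    Row0 p M S := by
  obtain ⟨m, hm, hx⟩ := hc
  have : IsSimpleGroup S := H400.LieSimple.isSimple_of_lie h
  have hpS : p ∣ Nat.card S := H330.Gow.dvd_card (H330.Gow.hasSplit_of_ab (H716.SplitAb.hasSplitAb_of_lie hp.out h))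
  exact row0_of_kap0 hM hpS fun A _ _ T _ e _ _ => hm.trans_le (Nat.pow_le_pow_left (le_kap0_of_cls h hx e hM) 2)

/-- the row from the classes of all families -/
theorem row_own_of (h11 : 11 ≤ p) (hM : IsPModular p M) (h : IsLieTypeChar p S)
    (hP : ∀ P : Sylow p S, ¬ IsCyclic (P : Subgroup S))
    (psp : IsPSpChar p S → ∃ m, 4 * (p - 1) < m ^ 2 ∧ TCls p m S)
    (odd : IsPOmegaOddChar p S → ∃ m, 4 * (p - 1) < m ^ 2 ∧ TCls p m S)
    (plus : IsPOmegaPlusChar p S → ∃ m, 4 * (p - 1) < m ^ 2 ∧ TCls p m S)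
    (minus : IsPOmegaMinusChar p S → ∃ m, 4 * (p - 1) < m ^ 2 ∧ TCls p m S)
    (exc : IsExceptionalChevChar p S → ∃ m, 4 * (p - 1) < m ^ 2 ∧ TCls p m S)
    (tw : IsTwistedE6D4Char p S → ∃ m, 4 * (p - 1) < m ^ 2 ∧ TCls p m S) : Row0 p M S := by
  refine row0_of_cls hM h ?_
  obtain ⟨P⟩ : Nonempty (Sylow p S) := inferInstance
  rcases h with h | h | h | h | h | h | h | h | ⟨h, -⟩ | ⟨h, -⟩ | ⟨h, -⟩
  · exact cls_of_psl h11 h P (hP P)
  · exact psp h
  · exact cls_of_psu h11 h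
  · exact odd h
  · exact plus h
  · exact minus h
  · exact exc h
  · exact tw h
  · omega
  · omega
  · omega

/-- the row from the classes of the exceptional groups -/
theorem row_own_of' (h11 : 11 ≤ p) (hM : IsPModular p M) (h : IsLieTypeChar p S)
    (hP : ∀ P : Sylow p S, ¬ IsCyclic (P : Subgroup S))
    (exc : IsExceptionalChevChar p S → ∃ m, 4 * (p - 1) < m ^ 2 ∧ TCls p m S)
    (tw : IsTwistedE6D4Char p S → ∃ m, 4 * (p - 1) < m ^ 2 ∧ TCls p m S) : Row0 p M S :=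
  row_own_of h11 hM h hP (H563.XZ.OwnSpRow.row_psp h11) (H563.XZ.OwnOmRow.row_odd h11) (H79.XZ.cls_of_plus h11)
    (H563.XZ.OwnOmRow.row_minus h11) exc tw

/-- **own characteristic, all families** -/
theorem cls_of_lie (h11 : 11 ≤ p) (h : IsLieTypeChar p S) (hP : ∀ P : Sylow p S, ¬ IsCyclic (P : Subgroup S)) :
    ∃ m, 4 * (p - 1) < m ^ 2 ∧ TCls p m S := by
  obtain ⟨P⟩ : Nonempty (Sylow p S) := inferInstance
  rcases h with h | h | h | h | h | h | h | h | ⟨h, -⟩ | ⟨h, -⟩ | ⟨h, -⟩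
  · exact cls_of_psl h11 h P (hP P)
  · exact H563.XZ.OwnSpRow.row_psp h11 h
  · exact cls_of_psu h11 h
  · exact H563.XZ.OwnOmRow.row_odd h11 h
  · exact H79.XZ.cls_of_plus h11 h
  · exact H563.XZ.OwnOmRow.row_minus h11 h
  · exact H143.Own.tcls_exc h11 h
  · exact H143.Own.tcls_tw h11 h
  · omega
  · omega
  · omega

/-- **own characteristic: the row** -/
theorem row_own (h11 : 11 ≤ p) (hM : IsPModular p M) (h : IsLieTypeChar p S)
    (hP : ∀ P : Sylow p S, ¬ IsCyclic (P : Subgroup S)) : Row0 p M S :=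
  row0_of_cls hM h (cls_of_lie h11 h hP)

end Cfsg.Agent.H712.XZ
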