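import Cfsg.Agent.H712.EP.QTwo
import Cfsg.Agent.H674.XZ.Base
import Cfsg.Agent.H668.XZ.Defs
import Cfsg.Agent.H193.K6.Basic
import Cfsg.Agent.Solvable.Hall
import Cfsg.Agent.PermutationGroups.ExceptionalDegree

/-!
# S4791 + S4927, own characteristic: the members of `X0` in the principal series (helper712)

* `Own p B U H N` : the frame: a split (B, N)-pair with abelian torus `H`, `U` a Sylow `p`-subgroup, `B = N_S(U)`;
* `Own.exists_norm` : every automorphism is, up to inner ones, an automorphism normalizing `U` and `H`;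
* `Own.fv` : `F (R_θ) ≠ 0`;
* `Own.le_kap0` : **the number of `A`-orbits on `X0(S)` is at least the number of `A`-classes of `p'`-elements of `B`.**
-/

set_option autoImplicit false
set_option linter.unusedSectionVars false

open scoped ComplexConjugate Pointwise
open Cfsg

namespace Cfsg.Agent.H712.XZ

open Cfsg.Agent.H712.EP Cfsg.Agent.Characters Cfsg.Agent.Characters.Core Cfsg.Agent.H674.XZ Cfsg.Agent.H668.XZ
  Cfsg.Agent.OddOrderCharacters.Clifford Cfsg.Agent.H53.HC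

universe u v

/-- The frame of the own characteristic: a split (B, N)-pair with abelian torus, `U` a Sylow `p`-subgroup,
`B = N_S(U)`, and all characters of degree prime to `p` in the principal block. -/
structure Own (p : ℕ) {S : Type u} [Group S] (B U H N : Subgroup S) : Prop where
  btn : BTN B U H N
  syl : ∃ Q : Sylow p S, (Q : Subgroup S) = U
  comm : ∀ a ∈ H, ∀ b ∈ H, a * b = b * a
  nor : ∀ g : S, (∀ u ∈ U, g * u * g⁻¹ ∈ U) → g ∈ B
  blk : ∀ M : Ideal AlgInt, IsPModular p M → ∀ χ : IrrCharacter S, ¬ p ∣ charDegree (χ : S → ℂ) →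
    χ ∈ principalBlock M S

namespace Own

variable {p : ℕ} [hp : Fact p.Prime] {S : Type u} [Group S] [Finite S] {B U H N : Subgroup S}

theorem card_B (D : Own p B U H N) : Nat.card B = Nat.card U * Nat.card H := by
  rw [← Nat.card_prod]
  refine (Nat.card_congr (Equiv.ofBijective
    (fun x : U × H => (⟨x.1 * x.2, mul_mem (D.btn.UB x.1.2) (D.btn.HB x.2.2)⟩ : B)) ⟨?_, ?_⟩)).symm
  · rintro ⟨u, t⟩ ⟨u', t'⟩ h
    have h0 : (u : S) * t = u' * t' := congrArg Subtype.val h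
    have h1 : (u' : S)⁻¹ * u = t' * (t : S)⁻¹ := by
      rw [eq_mul_inv_iff_mul_eq, mul_assoc, h0, inv_mul_cancel_left]
    have h2 := D.btn.disj _ (mul_mem (inv_mem u'.2) u.2) (by rw [h1]; exact mul_mem t'.2 (inv_mem t.2))
    have h3 : (u : S) = u' := (inv_mul_eq_one.1 h2).symm
    rw [h1] at h2
    have h4 : (t : S) = t' := (mul_inv_eq_one.1 h2).symm
    exact Prod.ext (Subtype.ext h3) (Subtype.ext h4)
  · rintro ⟨b, hb⟩
    obtain ⟨u, hu, t, ht, rfl⟩ := D.btn.cover b hb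
    exact ⟨(⟨u, hu⟩, ⟨t, ht⟩), rfl⟩

theorem pU (D : Own p B U H N) : IsPGroup p U := by
  obtain ⟨Q, hQ⟩ := D.syl
  rw [← hQ]
  exact Q.2

theorem not_dvd_index_U (D : Own p B U H N) : ¬ p ∣ U.index := by
  obtain ⟨Q, hQ⟩ := D.syl
  rw [← hQ]
  exact Q.not_dvd_index

theorem not_dvd_index (D : Own p B U H N) : ¬ p ∣ B.index :=
  fun h => D.not_dvd_index_U (h.trans (Subgroup.index_dvd_of_le D.btn.UB))

theorem not_dvd_card (D : Own p B U H N) : ¬ p ∣ Nat.card H := by
  intro h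
  have h1 : U.relIndex B = Nat.card H := by
    have h2 := (U.subgroupOf B).card_mul_index
    rw [Nat.card_congr (Subgroup.subgroupOfEquivOfLe D.btn.UB).toEquiv, D.card_B] at h2
    exact Nat.eq_of_mul_eq_mul_left Nat.card_pos h2
  rw [← h1] at h
  exact D.not_dvd_index_U (h.trans (Subgroup.relIndex_dvd_index_of_le D.btn.UB))

theorem coprime (D : Own p B U H N) : (Nat.card H).Coprime (Nat.card U) := by
  obtain ⟨k, hk⟩ := D.pU.exists_card_eq
  rw [hk]
  exact Nat.Coprime.pow_right _ ((Nat.Prime.coprime_iff_not_dvd hp.out).2 D.not_dvd_card).symm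

theorem solvable (D : Own p B U H N) : Group.IsSolvable B := by
  obtain ⟨π, hπ⟩ := D.btn.proj
  have hU : Group.IsSolvable (U.subgroupOf B) := by
    have h1 : IsPGroup p (U.subgroupOf B) := D.pU.comap_subtype
    have := h1.isNilpotent
    infer_instance
  have hH : Group.IsSolvable H := by
    have : IsMulCommutative H := ⟨⟨fun a b => Subtype.ext (D.comm a a.2 b b.2)⟩⟩
    exact Group.isSolvable_of_comm fun a b => Subtype.ext (D.comm a a.2 b b.2)
  refine Group.isSolvable_of_ker_le_range (U.subgroupOf B).subtype π ?_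
  intro b hb
  rw [Subgroup.range_subtype, Subgroup.mem_subgroupOf]
  obtain ⟨u, hu, t, ht, e⟩ := D.btn.cover b b.2
  have h1 : b = ⟨u * t, by rw [← e]; exact b.2⟩ := Subtype.ext e
  rw [MonoidHom.mem_ker, h1, hπ.mul hu ht (D.btn.UB hu) (D.btn.HB ht)] at hb
  have h2 : t = 1 := congrArg Subtype.val hb
  rw [e, h2, mul_one]
  exact hu

/-- `p'`-subgroups of `B` are conjugate into `H` -/
theorem exists_conj (D : Own p B U H N) (K : Subgroup S) (hK : K ≤ B) (hpK : ¬ p ∣ Nat.card K) :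
    ∃ b ∈ B, ∀ k ∈ K, b * k * b⁻¹ ∈ H := by
  have := D.solvable
  have hc : Nat.card (H.subgroupOf B) = Nat.card H :=
    Nat.card_congr (Subgroup.subgroupOfEquivOfLe D.btn.HB).toEquiv
  have hcK : Nat.card (K.subgroupOf B) = Nat.card K := Nat.card_congr (Subgroup.subgroupOfEquivOfLe hK).toEquiv
  obtain ⟨k, hk⟩ := D.pU.exists_card_eq
  obtain ⟨c, hc⟩ := Cfsg.Agent.Solvable.Hall.hall_conj_le (Nat.card H) (Nat.card U) (by rw [D.card_B, mul_comm])
    D.coprime (H.subgroupOf B) (K.subgroupOf B) hc (by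
      rw [hcK, hk]
      exact Nat.Coprime.pow_right _ ((Nat.Prime.coprime_iff_not_dvd hp.out).2 hpK).symm)
  refine ⟨c, c.2, fun k hk => ?_⟩
  have h2 : MulAut.conj c • (⟨k, hK hk⟩ : B) ∈ H.subgroupOf B :=
    hc (Subgroup.smul_mem_pointwise_smul _ _ _ hk)
  rw [Subgroup.mem_subgroupOf] at h2
  simpa using h2

theorem mem_B_iff (D : Own p B U H N) (g : S) : g ∈ B ↔ ∀ u ∈ U, g * u * g⁻¹ ∈ U :=
  ⟨fun h u hu => D.btn.norm g h u hu, D.nor g⟩

/-- every automorphism is, up to inner ones, an automorphism normalizing `U` and `H` -/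
theorem exists_norm (D : Own p B U H N) (σ : MulAut S) :
    ∃ s : S, (∀ u ∈ U, (MulAut.conj s * σ) u ∈ U) ∧ ∀ t ∈ H, (MulAut.conj s * σ) t ∈ H := by
  obtain ⟨Q, hQ⟩ := D.syl
  obtain ⟨s1, hs1⟩ := MulAction.exists_smul_eq S (σ • Q) Q
  have h1 : ∀ u ∈ U, (MulAut.conj s1 * σ) u ∈ U := by
    intro u hu
    have h2 : ((MulAut.conj s1 * σ) • (Q : Subgroup S)) = (Q : Subgroup S) := by
      rw [mul_smul, ← Sylow.pointwise_smul_def, ← Sylow.pointwise_smul_def, ← Sylow.smul_def, hs1]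
    rw [← hQ, ← h2]
    exact Subgroup.smul_mem_pointwise_smul u (MulAut.conj s1 * σ) (Q : Subgroup S) (by rw [hQ]; exact hu)
  set τ := MulAut.conj s1 * σ with hτ
  have h1' : ∀ u ∈ U, τ⁻¹ u ∈ U := by
    have h2 : U.map τ.toMonoidHom = U := by
      refine Subgroup.eq_of_le_of_card_ge ?_ ?_
      · rintro _ ⟨u, hu, rfl⟩
        exact h1 u hu
      · rw [Subgroup.card_map_of_injective τ.injective]
    intro u hu
    rw [← h2] at hu
    obtain ⟨v, hv, rfl⟩ := hu
    change τ⁻¹ (τ v) ∈ U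
    rwa [MulAut.inv_apply_self]
  let K : Subgroup S := H.map τ.toMonoidHom
  have hKB : K ≤ B := by
    rintro _ ⟨t, ht, rfl⟩
    refine D.nor _ fun u hu => ?_
    have h2 : τ t * u * (τ t)⁻¹ = τ (t * τ⁻¹ u * t⁻¹) := by
      rw [map_mul, map_mul, map_inv, MulAut.apply_inv_self]
    change τ t * u * (τ t)⁻¹ ∈ U
    rw [h2]
    exact h1 _ (D.btn.norm t (D.btn.HB ht) _ (h1' u hu))
  obtain ⟨b, hb, hbK⟩ := D.exists_conj K hKB (by
    rw [Subgroup.card_map_of_injective τ.injective]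
    exact D.not_dvd_card)
  refine ⟨b * s1, fun u hu => ?_, fun t ht => ?_⟩
  · have h2 : (MulAut.conj (b * s1) * σ) u = b * τ u * b⁻¹ := by
      rw [map_mul, mul_assoc, ← hτ, MulAut.mul_apply, MulAut.conj_apply]
    rw [h2]
    exact D.btn.norm b hb _ (h1 u hu)
  · have h2 : (MulAut.conj (b * s1) * σ) t = b * τ t * b⁻¹ := by
      rw [map_mul, mul_assoc, ← hτ, MulAut.mul_apply, MulAut.conj_apply]
    rw [h2]
    exact hbK _ ⟨t, ht, rfl⟩

/-- the automorphism of `H` induced by an automorphism normalizing `H` -/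
noncomputable def resH (τ : MulAut S) (h : ∀ t ∈ H, τ t ∈ H) : MulAut H :=
  MulEquiv.ofBijective ((τ.toMonoidHom.comp H.subtype).codRestrict H fun t => h t t.2) (by
    rw [← Finite.injective_iff_bijective]
    intro a b hab
    exact Subtype.ext (τ.injective (congrArg Subtype.val hab)))

@[simp] theorem coe_resH (τ : MulAut S) (h : ∀ t ∈ H, τ t ∈ H) (t : H) : ((resH τ h t : H) : S) = τ t := rfl

/-- the multiplicities and automorphisms -/
theorem mu_comp (D : Own p B U H N) {π : B →* H} (hπ : Proj B U H π) [Fintype B] (τ : MulAut S)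
    (hτU : ∀ u ∈ U, τ u ∈ U) (hτH : ∀ t ∈ H, τ t ∈ H) (χ : S → ℂ) (θ : H → ℂ) :
    mu π (χ ∘ τ) (θ ∘ resH τ hτH) = mu π χ θ := by
  have hτB : ∀ b ∈ B, τ b ∈ B := by
    intro b hb
    obtain ⟨u, hu, t, ht, rfl⟩ := D.btn.cover b hb
    rw [map_mul]
    exact mul_mem (D.btn.UB (hτU u hu)) (D.btn.HB (hτH t ht))
  unfold mu
  rw [classInner_def, classInner_def]
  congr 1
  have hb : Function.Bijective (fun b : B => (⟨τ b, hτB b b.2⟩ : B)) := by
    rw [← Finite.injective_iff_bijective]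
    intro a b hab
    exact Subtype.ext (τ.injective (congrArg Subtype.val hab))
  refine Fintype.sum_bijective _ hb _ _ fun b => ?_
  have h1 : resH τ hτH (π b) = π ⟨τ b, hτB b b.2⟩ := by
    obtain ⟨b, hb⟩ := b
    obtain ⟨u, hu, t, ht, rfl⟩ := D.btn.cover b hb
    rw [hπ.mul hu ht (D.btn.UB hu) (D.btn.HB ht)]
    have e : (⟨τ (u * t), hτB _ hb⟩ : B) = ⟨τ u * τ t, by rw [← map_mul]; exact hτB _ hb⟩ :=
      Subtype.ext (map_mul τ u t)
    rw [e, hπ.mul (hτU u hu) (hτH t ht) (D.btn.UB (hτU u hu)) (D.btn.HB (hτH t ht))]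
    rfl
  change χ (τ b) * conj (θ (resH τ hτH (π b))) = χ (τ b) * conj (θ (π ⟨τ b, hτB b b.2⟩))
  rw [h1]

/-- a power `≡ 1` modulo the `p'`-part fixes the elements of order prime to `p` -/
theorem pow_ex_of_reg {w : (ZMod (Nat.card S))ˣ} (hw : w ∈ JJ p S) {g : S} (hg : ¬ p ∣ orderOf g) : g ^ ex w = g := by
  have h1 : orderOf g ∣ dd p S := by
    refine Dvd.dvd.trans ?_ (mp_dvd_dd p S)
    have h2 : orderOf g ∣ p ^ (Nat.card S).factorization p * ordCompl[p] (Nat.card S) := by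
      rw [Nat.ordProj_mul_ordCompl_eq_self]
      exact orderOf_dvd_natCard g
    exact (Nat.Coprime.pow_right _ ((Nat.Prime.coprime_iff_not_dvd hp.out).2 hg).symm).dvd_of_dvd_mul_left h2
  have h3 : ex w ≡ 1 [MOD orderOf g] := ((mem_JJ w).1 hw).of_dvd h1
  have h4 := pow_eq_pow_iff_modEq.2 h3
  rwa [pow_one] at h4

theorem irr_H_one (D : Own p B U H N) {θ : H → ℂ} (hθ : IsIrrCharacter H θ) : θ 1 = 1 :=
  PermutationGroups.ExceptionalDegree.irr_one_of_comm (fun a b => Subtype.ext (D.comm a a.2 b b.2)) hθ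

/-- **`F(R_θ) = |S : B|`.** -/
theorem fv (D : Own p B U H N) [Fintype S] {π : B →* H} {M : Ideal AlgInt} (hM : IsPModular p M)
    {θ : H → ℂ} (hθ : IsIrrCharacter H θ) : FV p M (indFun B (θ ∘ π)) (B.index : ℤ) := by
  classical
  have hc : IsCharacter S (indFun B (θ ∘ π)) :=
    S0148.result B _ (isCharacter_comp π (isIrr_isCharacter hθ))
  refine ⟨fun w hw g => ?_, ?_⟩
  · rw [Core.indFun_apply, Core.indFun_apply]
    congr 1
    refine Finset.sum_congr rfl fun x _ => ?_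
    have h1 : x⁻¹ * g ^ ex w * x = (x⁻¹ * g * x) ^ ex w := by
      have := conj_pow (a := x⁻¹) (b := g) (i := ex w)
      rw [inv_inv] at this
      exact this.symm
    rw [h1]
    set y := x⁻¹ * g * x
    by_cases hy : y ∈ B
    · have hy' : y ^ ex w ∈ B := pow_mem hy _
      rw [ext_apply_mem B _ _ hy, ext_apply_mem B _ _ hy']
      have h2 : (⟨y ^ ex w, hy'⟩ : B) = ⟨y, hy⟩ ^ ex w := rfl
      rw [h2, Function.comp_apply, Function.comp_apply, map_pow]
      congr 1
      apply Subtype.ext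
      rw [SubgroupClass.coe_pow]
      refine pow_ex_of_reg hw fun h3 => D.not_dvd_card (h3.trans ?_)
      rw [Subgroup.orderOf_coe]
      exact orderOf_dvd_natCard _
    · have hy' : y ^ ex w ∉ B := by
        intro h3
        obtain ⟨j, hj⟩ := exists_pow_eq_self_of_coprime (x := y) (n := ex w)
          (Nat.Coprime.coprime_dvd_right (orderOf_dvd_natCard y) (ex_coprime w))
        apply hy
        rw [← hj]
        exact pow_mem h3 j
      rw [ext_apply_not_mem B _ _ hy, ext_apply_not_mem B _ _ hy']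
  · have hfin : Finite (IrrCharacter S) := finite_irr
    let : Fintype (IrrCharacter S) := Fintype.ofFinite _
    obtain ⟨b, hb⟩ := exists_nat_comb hc
    have h1 : ∀ χ : IrrCharacter S, ip (indFun B (θ ∘ π)) (χ : S → ℂ) = b χ := by
      intro χ
      rw [ip_eq, hb, classInner_sum_nsmul_irr]
    refine ⟨fun χ => b χ, fun χ => by rw [h1]; simp, ?_⟩
    have h2 : ((∑ χ : IrrCharacter S, b χ * charDegree (χ : S → ℂ) : ℕ) : ℂ) = (B.index : ℂ) := by
      have h3 : indFun B (θ ∘ π) 1 = (B.index : ℂ) * (θ ∘ π) 1 := indFun_one B _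
      rw [Function.comp_apply, map_one, D.irr_H_one hθ, mul_one] at h3
      rw [← h3]
      conv_rhs => rw [hb]
      rw [Finset.sum_apply]
      push_cast
      refine Finset.sum_congr rfl fun χ _ => ?_
      rw [Pi.smul_apply, nsmul_eq_mul, Cfsg.Agent.H667.BR.charDegree_cast]
    have h3 : ∑ χ : IrrCharacter S, b χ * charDegree (χ : S → ℂ) = B.index := by exact_mod_cast h2
    have h4 : ∑ χ : IrrCharacter S, (b χ : ℤ) * charDegree (χ : S → ℂ) = (B.index : ℤ) := by exact_mod_cast h3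
    rw [← h4]
    unfold bsum
    rw [Int.modEq_iff_dvd]
    have e : (Fintype.ofFinite (IrrCharacter S)) = Fintype.ofFinite (IrrCharacter S) := rfl
    rw [← Finset.sum_sub_distrib]
    refine Finset.dvd_sum fun χ _ => ?_
    by_cases h5 : χ ∈ principalBlock M S
    · rw [if_pos h5, sub_self]
      exact dvd_zero _
    · rw [if_neg h5, sub_zero]
      have h6 : p ∣ charDegree (χ : S → ℂ) := by
        by_contra h7
        exact h5 (D.blk M hM χ h7)
      exact Dvd.dvd.mul_left (by exact_mod_cast h6) _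

/-- a member of `X0` over `θ` -/
theorem exists_mem0 (D : Own p B U H N) [Fintype B] {π : B →* H} {M : Ideal AlgInt} (hM : IsPModular p M)
    {θ : H → ℂ} (hθ : IsIrrCharacter H θ) : ∃ χ : IrrCharacter S, Mem0 p M χ ∧ mu π (χ : S → ℂ) θ ≠ 0 := by
  have := Fintype.ofFinite S
  obtain ⟨χ, h1, h2⟩ := (D.fv (π := π) hM hθ).exists_mem0 (by
    intro h
    exact D.not_dvd_index (by exact_mod_cast h))
  refine ⟨χ, h1, fun h3 => h2 ?_⟩
  rw [mu_eq (isIrr_isClassFunction χ.2), ← classInner_conj_symm, map_eq_zero] at h3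
  rw [ip_eq]
  exact h3

/-- the automorphisms of `H` induced by a group of automorphisms of `S` -/
def gam (H : Subgroup S) (Γ : Subgroup (MulAut S)) : Subgroup (MulAut H) where
  carrier := {γ | ∃ σ ∈ Γ, ∀ t : H, ((γ t : H) : S) = σ t}
  one_mem' := ⟨1, one_mem _, fun t => rfl⟩
  mul_mem' := by
    rintro γ δ ⟨σ, hσ, h1⟩ ⟨τ, hτ, h2⟩
    refine ⟨σ * τ, mul_mem hσ hτ, fun t => ?_⟩
    rw [MulAut.mul_apply, MulAut.mul_apply, h1, h2]
  inv_mem' := by
    rintro γ ⟨σ, hσ, h1⟩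
    refine ⟨σ⁻¹, inv_mem hσ, fun t => ?_⟩
    apply σ.injective
    rw [← h1, MulAut.apply_inv_self, MulAut.apply_inv_self]

end Own

section main

variable {p : ℕ} [hp : Fact p.Prime] {A : Type u} [Group A] [Finite A] {T : Subgroup A} [T.Normal]
  {B U H N : Subgroup T}

/-- the image of `A` in `Aut T` -/
abbrev gA (T : Subgroup A) [T.Normal] : Subgroup (MulAut T) := (MulAut.conjNormal : A →* MulAut T).range

/-- **The members of `X0` in the principal series.** -/
theorem Own.le_kap0 (D : Own p B U H N) {M : Ideal AlgInt} (hM : IsPModular p M) {ι : Type v} [Finite ι] (x : ι → T)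
    (hx : ∀ i, ¬ p ∣ orderOf (x i)) (hxU : ∀ i, ∀ u ∈ U, x i * u * (x i)⁻¹ ∈ U)
    (hne : ∀ i j, ∀ a : A, a * x i * a⁻¹ = x j → i = j) : Nat.card ι ≤ kap0 p M T := by
  classical
  have := Fintype.ofFinite T
  have := Fintype.ofFinite B
  obtain ⟨π, hπ⟩ := D.btn.proj
  -- the elements are in `H`
  have h1 : ∀ i, ∃ b : T, b * x i * b⁻¹ ∈ H := by
    intro i
    obtain ⟨b, -, hb⟩ := D.exists_conj (Subgroup.zpowers (x i)) (by
      rw [Subgroup.zpowers_le]
      exact D.nor _ (hxU i)) (by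
      rw [Nat.card_zpowers]
      exact hx i)
    exact ⟨b, hb _ (Subgroup.mem_zpowers _)⟩
  choose b hb using h1
  let Γ := Own.gam H (gA T)
  have hinn : Cfsg.Agent.H193.K6.inn H ≤ Γ := by
    rintro _ ⟨t, rfl⟩
    refine ⟨1, one_mem _, fun s => ?_⟩
    rw [MulAut.conj_apply, MulAut.one_apply, Subgroup.coe_mul, Subgroup.coe_mul, Subgroup.coe_inv,
      D.comm _ t.2 _ s.2, mul_inv_cancel_right]
  have hinj : Function.Injective (fun i => (⟨b i * x i * (b i)⁻¹, hb i⟩ : H)) := by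
    intro i j hij
    have h2 : b i * x i * (b i)⁻¹ = b j * x j * (b j)⁻¹ := congrArg Subtype.val hij
    refine hne i j ((b j)⁻¹ * b i : T) ?_
    have h3 : ((b j)⁻¹ * b i) * x i * ((b j)⁻¹ * b i)⁻¹ = x j := by
      calc ((b j)⁻¹ * b i) * x i * ((b j)⁻¹ * b i)⁻¹ = (b j)⁻¹ * (b i * x i * (b i)⁻¹) * b j := by group
        _ = x j := by rw [h2]; group
    exact congrArg Subtype.val h3
  have := Fintype.ofFinite ι
  let F : Finset H := Finset.univ.image (fun i => (⟨b i * x i * (b i)⁻¹, hb i⟩ : H))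
  have hF : F.card = Nat.card ι := by
    rw [Finset.card_image_of_injective _ hinj, Finset.card_univ, Nat.card_eq_fintype_card]
  have hFne : ∀ s ∈ F, ∀ t ∈ F, ∀ γ ∈ Γ, γ s = t → s = t := by
    rintro s hs t ht γ ⟨_, ⟨a, rfl⟩, hγ⟩ hst
    obtain ⟨i, -, rfl⟩ := Finset.mem_image.1 hs
    obtain ⟨j, -, rfl⟩ := Finset.mem_image.1 ht
    have h2 := hγ ⟨b i * x i * (b i)⁻¹, hb i⟩
    rw [hst] at h2
    have h3 : (b j : A) * x j * (b j : A)⁻¹ = a * ((b i : A) * x i * (b i : A)⁻¹) * a⁻¹ := congrArg Subtype.val h2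
    have h4 : i = j := by
      refine hne i j ((b j : A)⁻¹ * a * b i) ?_
      calc ((b j : A)⁻¹ * a * b i) * x i * ((b j : A)⁻¹ * a * b i)⁻¹ =
          (b j : A)⁻¹ * (a * ((b i : A) * x i * (b i : A)⁻¹) * a⁻¹) * b j := by group
        _ = x j := by rw [← h3]; group
    subst h4
    rfl
  have h2 := Cfsg.Agent.H193.K6.card_le_orbits Γ hinn F hFne
  rw [hF] at h2
  refine h2.trans ?_
  -- the orbits of characters
  let := Cfsg.Agent.H193.K6.aI Γ
  have hfin : Finite (IrrCharacter T) := finite_irr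
  have hfinH : Finite (IrrCharacter H) := finite_irr
  choose χ hχ hmu using fun θ : IrrCharacter H => D.exists_mem0 (π := π) hM θ.2
  have : Finite {χ : IrrCharacter T // Mem0 p M χ} := finite_mem0
  have : Finite (Quotient (orbSetoid0 p M T)) := Quotient.finite _
  let f : MulAction.orbitRel.Quotient Γ (IrrCharacter H) → Quotient (orbSetoid0 p M T) :=
    fun q => Quotient.mk _ ⟨χ q.out, hχ q.out⟩
  refine Nat.card_le_card_of_injective f ?_
  intro q q' hqq
  obtain ⟨a, ha⟩ : ∃ a : A, ∀ s : T, (χ q'.out : T → ℂ) s = (χ q.out : T → ℂ) (MulAut.conjNormal a s) :=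
    Quotient.exact hqq
  obtain ⟨s, hsU, hsH⟩ := D.exists_norm (MulAut.conjNormal a)
  set τ : MulAut T := MulAut.conj s * MulAut.conjNormal a with hτ
  have hτΓ : τ ∈ gA T := ⟨s * a, by
    rw [map_mul, hτ]
    congr 1
    ext t
    rw [MulAut.conjNormal_apply, MulAut.conj_apply]
    rfl⟩
  have h3 : (χ q'.out : T → ℂ) = (χ q.out : T → ℂ) ∘ τ := by
    funext t
    rw [ha, Function.comp_apply, hτ, MulAut.mul_apply, MulAut.conj_apply]
    exact (isIrr_isClassFunction (χ q.out).2 _ s).symm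
  have h4 := D.mu_comp hπ τ hsU hsH (χ q.out : T → ℂ) (q.out : H → ℂ)
  rw [← h3] at h4
  have h5 : IsIrrCharacter H ((q.out : H → ℂ) ∘ Own.resH τ hsH) :=
    isIrr_comp (Own.resH τ hsH).toMonoidHom (Own.resH τ hsH).surjective q.out.2
  obtain ⟨n, hn, h6⟩ := exists_tw D.btn hπ (χ q'.out).2 h5 q'.out.2 (by rw [h4]; exact hmu _) (hmu _)
  -- same orbit
  have h7 : (q.out : H → ℂ) ∘ Own.resH τ hsH = (q'.out : H → ℂ) ∘ D.btn.cj hn := by
    rw [h6, D.btn.tw_eq _ hn]
  have hγ1 : Own.resH τ hsH ∈ Γ := ⟨τ, hτΓ, fun t => rfl⟩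
  have hγ2 : D.btn.cj hn ∈ Γ := ⟨MulAut.conjNormal ((n : A)⁻¹), ⟨_, rfl⟩, fun t => by
    apply Subtype.ext
    rw [MulAut.conjNormal_apply, inv_inv]
    rfl⟩
  rw [← q.out_eq, ← q'.out_eq]
  refine Quotient.sound ?_
  refine ⟨⟨Own.resH τ hsH * (D.btn.cj hn)⁻¹, mul_mem hγ1 (inv_mem hγ2)⟩, ?_⟩
  apply Subtype.ext
  funext t
  change (q'.out : H → ℂ) ((Own.resH τ hsH * (D.btn.cj hn)⁻¹)⁻¹ t) = (q.out : H → ℂ) t
  rw [mul_inv_rev, inv_inv, MulAut.mul_apply]
  have h8 := congrFun h7 ((Own.resH τ hsH)⁻¹ t)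
  rw [Function.comp_apply, Function.comp_apply, MulAut.apply_inv_self] at h8
  exact h8.symm

end main

end Cfsg.Agent.H712.XZ
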