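import Cfsg.Agent.H712.XZ.Own
import Cfsg.Agent.H133.PB.LieCross
import Cfsg.Agent.FixBN.BTheorem

/-!
# S4791 + S4927, own characteristic: the groups of Lie type (helper712)

* `own_of_lie` : the frame `Own` for every group of Lie type of characteristic `p`;
* `TCls p m S` : `m` elements of the split torus, pairwise not conjugate under `Aut S`;
* `le_kap0_of_cls` : `m ≤ kap0 p M T` for `T ≅ S` normal in `A`.
-/

set_option autoImplicit false
set_option linter.unusedSectionVars false

open scoped ComplexConjugate Pointwise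
open Cfsg

namespace Cfsg.Agent.H712.XZ

open Cfsg.Agent.H712.EP Cfsg.Agent.Characters Cfsg.Agent.Characters.Core Cfsg.Agent.H674.XZ Cfsg.Agent.H668.XZ
  Cfsg.Agent.OddOrderCharacters.Clifford Cfsg.Agent.H53.HC

universe u v

section lie

variable {p : ℕ} [hp : Fact p.Prime] {S : Type u} [Group S] [Finite S]

open Cfsg.Agent.FixBN

/-- the frame from a split (B, N)-pair -/
theorem own_of_split (h : Cfsg.Agent.Omega.ML.LieRow.CRB.HasSplitAb p S)
    (hblk : ∀ M : Ideal AlgInt, IsPModular p M → ∀ χ : IrrCharacter S, ¬ p ∣ charDegree (χ : S → ℂ) →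
      χ ∈ principalBlock M S) : ∃ B U H N : Subgroup S, Own p B U H N := by
  obtain ⟨P, U, -, hs, hc⟩ := h
  obtain ⟨m, hm, hm'⟩ := hs.tor
  have D := btn_of_bn P U hs.le hs.norm hs.isP hs.cover hm hm'
  refine ⟨P.B, U, P.B ⊓ P.N, P.N, D, ?_, ?_, ?_, hblk⟩
  · have hi : ¬ p ∣ U.index := by
      intro hd
      obtain ⟨k, hk⟩ := hs.isP.exists_card_eq
      have h1 : p ^ (k + 1) ∣ Nat.card S := by
        rw [← U.card_mul_index, hk, pow_succ]
        exact mul_dvd_mul_left _ hd
      have h2 := Sylow.prime_dvd_card_quotient_normalizer h1 hk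
      have hnor : (Subgroup.comap (Subgroup.normalizer (U : Set S)).subtype U).Normal :=
        inferInstanceAs (U.subgroupOf (Subgroup.normalizer (U : Set S))).Normal
      obtain ⟨x, hx⟩ := exists_prime_orderOf_dvd_card' (G := Subgroup.normalizer (U : Set S) ⧸
        Subgroup.comap (Subgroup.normalizer (U : Set S)).subtype U) p h2
      obtain ⟨⟨y, hy⟩, rfl⟩ := QuotientGroup.mk_surjective x
      have hyB : y ∈ P.B := by rw [← hs.normalizer_eq]; exact hy
      obtain ⟨u, hu, hun⟩ := hs.cover y hyB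
      have h4 : u⁻¹ * y ∈ P.B := mul_mem (inv_mem (hs.le hu)) hyB
      have h5 : (u⁻¹ * y) ^ m = 1 := hm' _ h4 hun
      have h6 : (QuotientGroup.mk (⟨y, hy⟩ : Subgroup.normalizer (U : Set S)) : Subgroup.normalizer (U : Set S) ⧸
          Subgroup.comap (Subgroup.normalizer (U : Set S)).subtype U) ^ m = 1 := by
        have h7 : u⁻¹ * y ∈ Subgroup.normalizer (U : Set S) := by rw [hs.normalizer_eq]; exact h4
        have h8 : (QuotientGroup.mk (⟨y, hy⟩ : Subgroup.normalizer (U : Set S)) : Subgroup.normalizer (U : Set S) ⧸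
            Subgroup.comap (Subgroup.normalizer (U : Set S)).subtype U) = QuotientGroup.mk ⟨u⁻¹ * y, h7⟩ := by
          rw [QuotientGroup.eq]
          show y⁻¹ * (u⁻¹ * y) ∈ U
          have h9 := hs.norm y⁻¹ (inv_mem hyB) _ (inv_mem hu)
          rw [inv_inv] at h9
          rwa [← mul_assoc]
        rw [h8, ← QuotientGroup.mk_pow]
        have h10 : (⟨u⁻¹ * y, h7⟩ : Subgroup.normalizer (U : Set S)) ^ m = 1 := Subtype.ext h5
        rw [h10]
        rfl
      have h7 := orderOf_dvd_of_pow_eq_one h6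
      rw [hx] at h7
      exact hm h7
    exact ⟨hs.isP.toSylow hi, rfl⟩
  · intro a ha b hb
    have h1 := hc a (Subgroup.mem_inf.1 ha).1 b (Subgroup.mem_inf.1 hb).1
    have h2 := D.disj _ h1 (mul_mem (mul_mem (mul_mem ha hb) (inv_mem ha)) (inv_mem hb))
    have h4 : a * b * a⁻¹ = b := mul_inv_eq_one.1 h2
    exact mul_inv_eq_iff_eq_mul.1 h4
  · intro g hg
    rw [← hs.normalizer_eq]
    have h1 : U.map (MulAut.conj g).toMonoidHom = U := by
      refine Subgroup.eq_of_le_of_card_ge ?_ ?_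
      · rintro _ ⟨u, hu, rfl⟩
        exact hg u hu
      · rw [Subgroup.card_map_of_injective (MulAut.conj g).injective]
    rw [Subgroup.mem_normalizer_iff]
    intro u
    refine ⟨fun hu => hg u hu, fun hu => ?_⟩
    rw [← h1] at hu
    obtain ⟨v, hv, e⟩ := hu
    have : v = u := (MulAut.conj g).injective e
    rwa [← this]

/-- all characters of degree prime to `p` of a group of Lie type of characteristic `p` are in the principal block -/
theorem mem_principal_of_lie (hG : IsLieTypeChar p S) (χ : IrrCharacter S) (hχ : ¬ p ∣ charDegree (χ : S → ℂ))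
    {M : Ideal AlgInt} (hM : IsPModular p M) : χ ∈ principalBlock M S := by
  have : IsSimpleGroup S := H400.LieSimple.isSimple_of_lie hG
  have hS := H716.SplitAb.hasSplitAb_of_lie hp.out hG
  have hS' := H330.Gow.hasSplit_of_ab hS
  have hdvd := H330.Gow.dvd_card hS'
  obtain ⟨ψ, hψ, hψ1, -⟩ := H330.GowSt.exists_st_of_hasSplit hS'
  let st : IrrCharacter S := ⟨ψ, hψ⟩
  have hdeg : charDegree ψ = p ^ (Nat.card S).factorization p := Blocks.Basic.charDegree_of_eq hψ1
  have hst : ¬ p ∣ Nat.card S / charDegree (st : S → ℂ) := by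
    rw [H143.ChevBlocks.not_dvd_iff st.2]
    show _ ≤ (charDegree ψ).factorization p
    rw [hdeg, hp.out.factorization_pow]
    simp
  have huniq : ∀ φ : IrrCharacter S, ¬ p ∣ Nat.card S / charDegree (φ : S → ℂ) → φ = st := fun φ hφ =>
    H330.GowOne.unique_of_hasSplitAb hS (H330.Gow.perfect_of_split hS') φ st hφ hst
  refine H330.GowBlock.mem_principal hM hdvd (H330.Gow.locChar_of_lie hG) (H400.LieLocal.center_eq_bot hS') st hst
    huniq χ ?_
  rintro rfl
  apply hχ
  show p ∣ charDegree ψ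
  rw [hdeg]
  exact dvd_pow_self p (hp.out.factorization_pos_of_dvd Nat.card_pos.ne' hdvd).ne'

theorem own_of_lie (hG : IsLieTypeChar p S) : ∃ B U H N : Subgroup S, Own p B U H N :=
  have : IsSimpleGroup S := H400.LieSimple.isSimple_of_lie hG
  own_of_split (H716.SplitAb.hasSplitAb_of_lie hp.out hG) fun _ hM χ hχ => mem_principal_of_lie hG χ hχ hM

/-- `m` elements of order prime to `p`, each normalizing a Sylow `p`-subgroup (elements of the split torus), which are
pairwise not conjugate under the automorphism group -/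
def TCls (p m : ℕ) (S : Type u) [Group S] : Prop :=
  ∃ x : Fin m → S, (∀ i, ¬ p ∣ orderOf (x i)) ∧
    (∀ i, ∃ Q : Sylow p S, ∀ u ∈ (Q : Subgroup S), x i * u * (x i)⁻¹ ∈ (Q : Subgroup S)) ∧
    ∀ i j, ∀ σ : S ≃* S, σ (x i) = x j → i = j

/-- **Own characteristic.** -/
theorem le_kap0_of_cls {m : ℕ} (hG : IsLieTypeChar p S) (hx : TCls p m S) {A : Type u} [Group A] [Finite A]
    {T : Subgroup A} [T.Normal] (e : S ≃* T) {M : Ideal AlgInt} (hM : IsPModular p M) : m ≤ kap0 p M T := by
  obtain ⟨B, U, H, N, D⟩ := own_of_lie (S := T) (p := p) (Cfsg.Agent.FixBN.BTheorem.isLieTypeChar_congr e hG)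
  obtain ⟨x, hx1, hx2, hx3⟩ := hx
  obtain ⟨Q, hQ⟩ := D.syl
  have h1 : ∀ i, ∃ b : T, ∀ u ∈ U, (b * e (x i) * b⁻¹) * u * (b * e (x i) * b⁻¹)⁻¹ ∈ U := by
    intro i
    obtain ⟨R, hR⟩ := hx2 i
    let R' : Sylow p T := R.mapSurjective (f := e.toMonoidHom) e.surjective
    have hR' : ∀ u ∈ (R' : Subgroup T), e (x i) * u * (e (x i))⁻¹ ∈ (R' : Subgroup T) := by
      intro u hu
      have hu' : u ∈ (R : Subgroup S).map e.toMonoidHom := hu
      obtain ⟨v, hv, rfl⟩ := hu'
      have h2 : e (x i * v * (x i)⁻¹) ∈ (R : Subgroup S).map e.toMonoidHom := ⟨_, hR v hv, rfl⟩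
      rw [map_mul, map_mul, map_inv] at h2
      exact h2
    obtain ⟨b, hb⟩ := MulAction.exists_smul_eq T R' Q
    refine ⟨b, fun u hu => ?_⟩
    have h3 : ∀ y : T, y ∈ U ↔ b⁻¹ * y * b ∈ (R' : Subgroup T) := by
      intro y
      rw [← hQ, ← hb]
      rw [Sylow.smul_def, Sylow.pointwise_smul_def, Subgroup.mem_pointwise_smul_iff_inv_smul_mem,
        ← map_inv, MulAut.smul_def, MulAut.conj_apply, inv_inv]
    rw [h3] at hu ⊢
    have h4 := hR' _ hu
    have h5 : b⁻¹ * (b * e (x i) * b⁻¹ * u * (b * e (x i) * b⁻¹)⁻¹) * b = e (x i) * (b⁻¹ * u * b) * (e (x i))⁻¹ := by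
      group
    rw [h5]
    exact h4
  choose b hb using h1
  have h2 := D.le_kap0 hM (ι := Fin m) (fun i => b i * e (x i) * (b i)⁻¹) (fun i => ?_) hb ?_
  · rwa [Nat.card_eq_fintype_card, Fintype.card_fin] at h2
  · have h3 : orderOf (b i * e (x i) * (b i)⁻¹) = orderOf (x i) := by
      rw [← MulAut.conj_apply, MulEquiv.orderOf_eq, MulEquiv.orderOf_eq]
    rw [h3]
    exact hx1 i
  · intro i j a ha
    let σ : S ≃* S := e.trans (((MulAut.conj (b i)).trans ((MulAut.conjNormal a).trans (MulAut.conj (b j)⁻¹))).trans e.symm)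
    refine hx3 i j σ ?_
    show e.symm (MulAut.conj (b j)⁻¹ (MulAut.conjNormal a (MulAut.conj (b i) (e (x i))))) = x j
    rw [MulEquiv.symm_apply_eq, MulAut.conj_apply, MulAut.conj_apply, inv_inv]
    have h3 : MulAut.conjNormal a (b i * e (x i) * (b i)⁻¹) = b j * e (x j) * (b j)⁻¹ := by
      apply Subtype.ext
      rw [MulAut.conjNormal_apply]
      exact ha
    rw [h3]
    group

end lie

end Cfsg.Agent.H712.XZ
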